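import Cfsg.Agent.LangTorus.Regular
import Mathlib.GroupTheory.Sylow
import Mathlib.GroupTheory.Nilpotent

/-!
# Fusion in the torus, and conjugation of `p`-elements into a maximal `p`-subgroup

An element carrying torus elements to torus elements has a Weyl group element carrying their
values; if the torus elements separate the roots it is monomial.
-/

set_option autoImplicit false
set_option linter.style.haveILetI false

namespace CfsgLib.ESevenOrders

open Cfsg.Lie CfsgLib.Chevalley CfsgLib.ChevTorus CfsgLib.LangChev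

variable {D : ChevalleyDatum} {C : Weyl.Cert D.rank} {M : CoxeterMatrix (Fin D.rank)}
  {R : Weyl.RootTable} {F : Type*} [Field F]

theorem eq_one_of_separated (hW : GoodWeyl D) {u : GL D.Idx F} (hu : u ∈ D.posUnipotent F)
    (hs : ∀ r : Root D, ∃ c : Fin D.rank → Fˣ, torVal c (Sum.inr r) ≠ 1 ∧
      torC D c * u * (torC D c)⁻¹ = u) : u = 1 := by
  rw [posUnipotent_eq hW.good] at hu
  obtain ⟨t, rfl⟩ := exists_sideR hW.toGoodComm false hu
  have h0 : ∀ j, t j = 0 := by
    intro j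
    obtain ⟨c, hc, hcu⟩ := hs (rootOf hW.good false (half D + j))
    have e1 := LangTorus.torC_conj_sideR hW.good false c t
    rw [hcu] at e1
    have e2 := congrFun (sideR_injective hW.toGoodUni false e1) j
    by_contra hne
    refine hc (Units.ext (mul_right_cancel₀ hne ?_))
    rw [Units.val_one, one_mul, ← e2]
  rw [sideR]
  exact List.prod_eq_one fun x hx => by
    obtain ⟨j, rfl⟩ := List.mem_ofFn.1 hx
    rw [h0 j]
    exact X_zero _ _

/-- **Fusion in the torus** is realised by the Weyl group. -/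
theorem exists_weyl_of_conj (hW : GoodWeyl D) (h : Weyl.RootGood C M R) {g : GL D.Idx F}
    (hg : g ∈ D.group F) :
    ∃ w : M.Group,
      (∀ c d : Fin D.rank → Fˣ, g * torC D c = torC D d * g →
        ∀ r : Root D, torVal d (Sum.inr (h.rootPerm w r)) = torVal c (Sum.inr r)) ∧
      ((∀ r : Root D, ∃ c d : Fin D.rank → Fˣ, g * torC D c = torC D d * g ∧
        torVal c (Sum.inr r) ≠ 1) →
        ∃ hm : g ∈ D.monomialSubgroup F, weylHom hW h ⟨g, hm⟩ = w) := by
  obtain ⟨⟨w, b, u⟩, ⟨hb, hu, e⟩, huniq⟩ := existsUnique_form hW h hg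
  dsimp only at hb hu e huniq
  obtain ⟨v, hv, d₀, hd₀, rfl⟩ := (mem_borel_iff hW).1 hb
  set n := nW hW h F w with hn
  have hnN : n ∈ D.monomialSubgroup F := nW_mem hW h w
  have key : ∀ c d : Fin D.rank → Fˣ, g * torC D c = torC D d * g →
      torC D c * u * (torC D c)⁻¹ = u ∧ torC D d * v * (torC D d)⁻¹ = v ∧
        ∀ r : Root D, torVal d (Sum.inr (h.rootPerm w r)) = torVal c (Sum.inr r) := by
    intro c d he
    set t : GL D.Idx F := torC D c with ht
    set t' : GL D.Idx F := torC D d with ht'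
    have htd : t ∈ D.diagonalSubgroup F := LangTorus.torC_mem_diag hW c
    have htd' : t' ∈ D.diagonalSubgroup F := LangTorus.torC_mem_diag hW d
    set k := n⁻¹ * t' * n * t⁻¹ with hkdef
    have hk : k ∈ D.diagonalSubgroup F :=
      mul_mem ((Subgroup.mem_normalizer_iff''.1 (monomial_le_normalizer hW hnN) t').1 htd')
        (inv_mem htd)
    have hnk : n * k * n⁻¹ ∈ D.diagonalSubgroup F :=
      (Subgroup.mem_normalizer_iff.1 (monomial_le_normalizer hW hnN) k).1 hk
    have hu' : t * u * t⁻¹ ∈ uW hW h F w := diag_conj_rootGen hW htd hu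
    have hb' : t' * (v * d₀) * t'⁻¹ * (n * k * n⁻¹) ∈ D.borelSubgroup F :=
      mul_mem (mul_mem (mul_mem (diag_le_borel D htd') hb) (inv_mem (diag_le_borel D htd')))
        (diag_le_borel D hnk)
    have e' : t' * (v * d₀) * t'⁻¹ * (n * k * n⁻¹) * n * (t * u * t⁻¹) = g := by
      rw [hkdef, show t' * (v * d₀) * t'⁻¹ * (n * (n⁻¹ * t' * n * t⁻¹) * n⁻¹) * n *
        (t * u * t⁻¹) = t' * (v * d₀ * n * u) * t⁻¹ by group, e, ← he, mul_inv_cancel_right]
    have h3 := huniq (w, t' * (v * d₀) * t'⁻¹ * (n * k * n⁻¹), t * u * t⁻¹) ⟨hb', hu', e'⟩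
    simp only [Prod.mk.injEq, true_and] at h3
    obtain ⟨h1, h2⟩ := h3
    have hdt : t' * d₀ * t'⁻¹ = d₀ := by rw [diag_comm hW htd' hd₀, mul_inv_cancel_right]
    have h4 : v⁻¹ * (t' * v * t'⁻¹) = d₀ * (n * k * n⁻¹)⁻¹ * d₀⁻¹ := by
      have : t' * v * t'⁻¹ * (t' * d₀ * t'⁻¹) * (n * k * n⁻¹) = v * d₀ := by rw [← h1]; group
      rw [hdt] at this
      rw [show t' * v * t'⁻¹ = v * d₀ * (n * k * n⁻¹)⁻¹ * d₀⁻¹ by rw [← this]; group]
      group
    have hvU : t' * v * t'⁻¹ ∈ D.posUnipotent F :=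
      (Subgroup.mem_normalizer_iff.1 (diag_le_normalizer_pos hW htd') v).1 hv
    have h5 : v⁻¹ * (t' * v * t'⁻¹) = 1 := by
      have h8 : v⁻¹ * (t' * v * t'⁻¹) ∈ D.posUnipotent F ⊓ D.diagonalSubgroup F :=
        Subgroup.mem_inf.2 ⟨mul_mem (inv_mem hv) hvU,
          h4 ▸ mul_mem (mul_mem hd₀ (inv_mem hnk)) (inv_mem hd₀)⟩
      rw [pos_inf_diag hW] at h8
      exact Subgroup.mem_bot.1 h8
    have hk1 : k = 1 := by
      rw [h5] at h4
      have h6 : (n * k * n⁻¹)⁻¹ = 1 := by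
        calc (n * k * n⁻¹)⁻¹ = d₀⁻¹ * (d₀ * (n * k * n⁻¹)⁻¹ * d₀⁻¹) * d₀ := by group
          _ = 1 := by rw [← h4]; group
      rw [inv_eq_one] at h6
      calc k = n⁻¹ * (n * k * n⁻¹) * n := by group
        _ = 1 := by rw [h6]; group
    have hnt : t' * n = n * t := by
      calc t' * n = n * k * t := by rw [hkdef]; group
        _ = n * t := by rw [hk1, mul_one]
    refine ⟨h2, (inv_mul_eq_one.1 h5).symm, fun r => ?_⟩
    obtain ⟨s, hs⟩ := (monBy_nW (F := F) hW h w).conj_X r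
    have e1 := ChevTorus.torC_conj_X hW.good d (h.rootPerm w r) ((s : F) * 1)
    rw [← hs, ← ht', show t' * (n * X hW.good r 1 * n⁻¹) * t'⁻¹ =
      (t' * n) * X hW.good r 1 * (t' * n)⁻¹ by group, hnt,
      show n * t * X hW.good r 1 * (n * t)⁻¹ = n * (t * X hW.good r 1 * t⁻¹) * n⁻¹ by group,
      ht, ChevTorus.torC_conj_X hW.good, hs] at e1
    have e2 := congrArg (fun g : GL D.Idx F => (g : Matrix D.Idx D.Idx F)) e1
    obtain ⟨i, hi⟩ := hW.toGoodUni.exists_coroot_ne F (h.rootPerm w r)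
    have e3 := congrFun (congrFun e2 (Sum.inl i)) (Sum.inr (h.rootPerm w r).rev)
    simp only [coe_X, xR_entry_coroot hW.good, if_pos, mul_one] at e3
    have e4 := mul_right_cancel₀ hi e3
    rw [mul_comm] at e4
    exact Units.ext (mul_right_cancel₀ s.ne_zero e4).symm
  refine ⟨w, fun c d he => (key c d he).2.2, fun hsep => ?_⟩
  have hu1 : u = 1 := eq_one_of_separated hW (uW_le_pos hW h w hu) fun r => by
    obtain ⟨c, d, he, hc⟩ := hsep r
    exact ⟨c, hc, (key c d he).1⟩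
  have hv1 : v = 1 := eq_one_of_separated hW hv fun r => by
    obtain ⟨c, d, he, hc⟩ := hsep ((h.rootPerm w)⁻¹ r)
    refine ⟨d, ?_, (key c d he).2.1⟩
    have := (key c d he).2.2 ((h.rootPerm w)⁻¹ r)
    rw [show h.rootPerm w ((h.rootPerm w)⁻¹ r) = r from (h.rootPerm w).apply_symm_apply r] at this
    rwa [this]
  have hg' : g = d₀ * n := by rw [← e, hu1, hv1, one_mul, mul_one]
  subst hg'
  have hdN := diag_le_monomial D hd₀
  refine ⟨mul_mem hdN hnN, ?_⟩
  show weylHom hW h (⟨d₀, hdN⟩ * ⟨n, hnN⟩) = w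
  rw [map_mul, weylHom_nW hW h w hnN]
  have : (⟨d₀, hdN⟩ : ↥(D.monomialSubgroup F)) ∈ (weylHom hW h).ker := by
    rw [ker_weylHom]; exact hd₀
  rw [MonoidHom.mem_ker.1 this, one_mul]

/-- A `p`-subgroup containing all `p`-elements normalising it meets every class of `p`-elements. -/
theorem exists_conj_mem_of_normalizer {G : Type*} [Group G] [Finite G] {p : ℕ} [Fact p.Prime]
    {S : Subgroup G} (hS : IsPGroup p S)
    (hmax : ∀ g ∈ Subgroup.normalizer (S : Set G), (∃ a : ℕ, g ^ p ^ a = 1) → g ∈ S)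
    {x : G} (hx : ∃ a : ℕ, x ^ p ^ a = 1) : ∃ g : G, g * x * g⁻¹ ∈ S := by
  obtain ⟨P, hP⟩ := hS.exists_le_sylow
  have hPS : (P : Subgroup G) = S := by
    by_contra hne
    have hlt : S.subgroupOf (P : Subgroup G) < ⊤ := by
      rw [lt_top_iff_ne_top, Ne, Subgroup.subgroupOf_eq_top]
      exact fun hle => hne (le_antisymm hle hP)
    haveI := P.isPGroup'.isNilpotent
    have h1 := Group.normalizerCondition_of_isNilpotent _ hlt
    obtain ⟨⟨g, hgP⟩, hgN, hgS⟩ := SetLike.exists_of_lt h1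
    refine hgS (Subgroup.mem_subgroupOf.2 (hmax g ?_ ?_))
    · rw [Subgroup.mem_normalizer_iff] at hgN ⊢
      intro y
      constructor
      · intro hy
        have := (hgN ⟨y, hP hy⟩).1 (Subgroup.mem_subgroupOf.2 hy)
        exact Subgroup.mem_subgroupOf.1 this
      · intro hy
        have hyP : y ∈ (P : Subgroup G) := by
          have := mul_mem (mul_mem (inv_mem hgP) (hP hy)) hgP
          rwa [show g⁻¹ * (g * y * g⁻¹) * g = y by group] at this
        exact Subgroup.mem_subgroupOf.1 ((hgN ⟨y, hyP⟩).2 (Subgroup.mem_subgroupOf.2 hy))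
    · obtain ⟨a, ha⟩ := P.isPGroup' ⟨g, hgP⟩
      exact ⟨a, congrArg Subtype.val ha⟩
  have hpx : IsPGroup p (Subgroup.zpowers x) := by
    obtain ⟨a, ha⟩ := hx
    exact IsPGroup.of_card (n := ((Nat.dvd_prime_pow (Fact.out : p.Prime)).1
      (orderOf_dvd_of_pow_eq_one ha)).choose)
      (by rw [Nat.card_zpowers]; exact ((Nat.dvd_prime_pow (Fact.out : p.Prime)).1
        (orderOf_dvd_of_pow_eq_one ha)).choose_spec.2)
  obtain ⟨Q, hQ⟩ := hpx.exists_le_sylow
  obtain ⟨g, hg⟩ := MulAction.exists_smul_eq G Q P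
  refine ⟨g, ?_⟩
  rw [← hPS, ← hg]
  exact Subgroup.smul_mem_pointwise_smul x (MulAut.conj g) _ (hQ (Subgroup.mem_zpowers x))

end CfsgLib.ESevenOrders
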