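import Cfsg.Agent.ESevenOrders.Checks
import Cfsg.Agent.Chevalley.WeylGroup
import Cfsg.Agent.Chevalley.WeylData
import Cfsg.Agent.Chevalley.Bruhat

/-!
# The Weyl group of E7 on root coordinates
-/

set_option autoImplicit false

namespace CfsgLib.ESevenOrders

open Cfsg.Lie CfsgLib.Chevalley

/-- The roots of E7. -/
abbrev Rt : Type := Fin chevE7.nroots

/-- The nodes of E7. -/
abbrev Nd : Type := Fin chevE7.rank

theorem nd_lt (i : Nd) : (i : ℕ) < 7 := i.isLt

theorem rt_lt (r : Rt) : (r : ℕ) < 126 := r.isLt

theorem goodE : GoodWeyl chevE7 := goodWeyl_of_mem (by simp)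

theorem cartan_eq (k : Nd) (r : Rt) :
    chevE7.cartan k r = ∑ i : Nd, co r i * cm k i := by
  have h := chk_cartan
  simp only [List.all_eq_true, List.mem_range, beq_iff_eq] at h
  rw [show chevE7.cartan k r = (chevE7.cartanSR.getD k #[]).getD r 0 from rfl,
    ← h r (rt_lt r) k (nd_lt k), sum7_eq]
  rfl

theorem coroot_eq (r : Rt) (k : Nd) : (chevE7.coroot.getD r #[]).getD k 0 = co r k := by
  have h := chk_coroot
  simp only [List.all_eq_true, List.mem_range, beq_iff_eq] at h
  exact (h r (rt_lt r) k (nd_lt k)).symm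

theorem simple_facts (i k : Nd) :
    (pRoot goodE i : ℕ) = sx i ∧ co (sx i) k = dl i k ∧ cm i k = cm k i ∧
      ∑ j : Nd, ca i j * cm j k = 2 * dl i k ∧ ∑ j : Nd, cm i j * ca j k = 2 * dl i k := by
  have h := chk_simple
  simp only [List.all_eq_true, List.mem_range, Bool.and_eq_true, beq_iff_eq] at h
  obtain ⟨h1, h2⟩ := h i (nd_lt i)
  obtain ⟨⟨⟨h3, h4⟩, h5⟩, h6⟩ := h2 k (nd_lt k)
  rw [sum7_eq] at h5 h6
  exact ⟨h1, h3, h4, h5, h6⟩

theorem dl_eq (i k : Nd) : dl i k = if i = k then 1 else 0 := by
  simp only [dl, Bool.cond_eq_ite, beq_iff_eq, Fin.val_inj]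

theorem co_simple (i k : Nd) : co (pRoot goodE i) k = if i = k then 1 else 0 := by
  rw [(simple_facts i k).1, (simple_facts i k).2.1, dl_eq]

theorem cartan_simple (k i : Nd) : chevE7.cartan k (pRoot goodE i) = cm k i := by
  rw [cartan_eq, Finset.sum_eq_single i]
  · rw [co_simple, if_pos rfl, one_mul]
  · intro j _ hj
    rw [co_simple, if_neg (Ne.symm hj), zero_mul]
  · simp

/-- The Cartan matrix is injective. -/
theorem eq_of_wts {x y : Nd → ℤ} (e : ∀ k : Nd, ∑ i : Nd, x i * cm k i = ∑ i : Nd, y i * cm k i) :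
    x = y := by
  have key : ∀ (z : Nd → ℤ) (j : Nd),
      ∑ k : Nd, ca j k * ∑ i : Nd, z i * cm k i = 2 * z j := by
    intro z j
    calc ∑ k : Nd, ca j k * ∑ i : Nd, z i * cm k i
        = ∑ i : Nd, z i * ∑ k : Nd, ca j k * cm k i := by
          simp only [Finset.mul_sum]
          rw [Finset.sum_comm]
          exact Finset.sum_congr rfl fun i _ => Finset.sum_congr rfl fun k _ => by ring
      _ = 2 * z j := by
          rw [Finset.sum_eq_single j]
          · rw [(simple_facts j j).2.2.2.1, dl_eq, if_pos rfl]; ring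
          · intro i _ hi
            rw [(simple_facts j i).2.2.2.1, dl_eq, if_neg (Ne.symm hi)]; ring
          · simp
  funext j
  have h := (key x j).symm.trans ((Finset.sum_congr rfl fun k _ => by rw [e k]).trans (key y j))
  omega

theorem pairing_eq (r s : Rt) : chevE7.pairing r s = pr r s := by
  rw [pairing_eq_sum, pr, sum7_eq]
  refine Finset.sum_congr rfl fun k _ => ?_
  rw [coroot_eq, cartan_eq, sum7_eq]
  exact congrArg _ (Finset.sum_congr rfl fun i _ => mul_comm _ _)

theorem rows_nodup : coTab.Nodup := by decide +kernel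

theorem rows_length : coTab.length = 126 ∧ ∀ row ∈ coTab, row.length = 7 := by decide +kernel

theorem co_injective {r s : Rt} (e : ∀ k : Nd, co r k = co s k) : r = s := by
  have hr : (r : ℕ) < coTab.length := rows_length.1 ▸ rt_lt r
  have hs : (s : ℕ) < coTab.length := rows_length.1 ▸ rt_lt s
  refine Fin.ext ((rows_nodup.getElem_inj_iff (hi := hr) (hj := hs)).1 ?_)
  have l1 := rows_length.2 _ (List.getElem_mem hr)
  have l2 := rows_length.2 _ (List.getElem_mem hs)
  refine List.ext_getElem (l1.trans l2.symm) fun k h1 h2 => ?_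
  have := e ⟨k, by rw [l1] at h1; exact h1⟩
  simp only [co, tab, List.getD_eq_getElem _ _ hr, List.getD_eq_getElem _ _ hs,
    List.getD_eq_getElem _ _ h1, List.getD_eq_getElem _ _ h2] at this
  exact this

variable {C : Weyl.Cert chevE7.rank} {M : CoxeterMatrix (Fin chevE7.rank)} {R : Weyl.RootTable}
  (h : Weyl.RootGood C M R)

/-- The image of a fundamental root. -/
def im (w : M.Group) (i : Nd) : Rt := h.rootPerm w (pRoot goodE i)

theorem pr_perm (w : M.Group) :
    ∀ r s : Rt, pr (h.rootPerm w r) (h.rootPerm w s) = pr r s := by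
  simp only [← pairing_eq]
  induction w using M.toCoxeterSystem.simple_induction_left with
  | one => simp
  | mul_simple_left w i ih =>
    intro r s
    rw [map_mul, CoxeterMatrix.toCoxeterSystem_simple, Equiv.Perm.mul_apply,
      Equiv.Perm.mul_apply, ← wPerm_eq_rootPerm goodE h, goodE.pairing_wPerm,
      goodE.wPerm_wPerm, ih]

theorem co_wPerm (i : Nd) (r : Rt) (k : Nd) :
    co (wPerm goodE i r) k = co r k - if i = k then chevE7.cartan i r else 0 := by
  have e : (fun k : Nd => co (wPerm goodE i r) k) =
      fun k : Nd => co r k - if i = k then chevE7.cartan i r else 0 := by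
    refine eq_of_wts fun j => ?_
    rw [← cartan_eq, goodE.cartan_wPerm, cartan_eq j r, cartan_simple]
    simp [sub_mul, Finset.sum_sub_distrib, ite_mul]
  exact congrFun e k

/-- An element of the Weyl group is linear on coordinates. -/
theorem co_perm (w : M.Group) :
    ∀ (r : Rt) (k : Nd), co (h.rootPerm w r) k = ∑ i : Nd, co r i * co (im h w i) k := by
  induction w using M.toCoxeterSystem.simple_induction_left with
  | one =>
    intro r k
    simp [im, co_simple, Finset.sum_ite_eq']
  | mul_simple_left w j ih =>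
    intro r k
    simp only [im, map_mul, CoxeterMatrix.toCoxeterSystem_simple, Equiv.Perm.mul_apply,
      ← wPerm_eq_rootPerm goodE h, co_wPerm, mul_sub, Finset.sum_sub_distrib]
    simp only [← im.eq_def]
    rw [← ih r k]
    congr 1
    split_ifs with hjk
    · rw [cartan_eq, Finset.sum_congr rfl fun i _ => by rw [ih r i, Finset.sum_mul],
        Finset.sum_comm]
      refine Finset.sum_congr rfl fun i _ => ?_
      rw [cartan_eq, Finset.mul_sum]
      exact Finset.sum_congr rfl fun l _ => by ring
    · simp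

/-- An element fixing the fundamental roots is trivial. -/
theorem eq_one_of_im {w : M.Group} (hw : ∀ i k : Nd, co (im h w i) k = if i = k then 1 else 0) :
    w = 1 := by
  refine h.rootPerm_injective ?_
  rw [map_one]
  refine Equiv.ext fun r => co_injective fun k => ?_
  rw [co_perm h w r k, Equiv.Perm.one_apply]
  simp [hw]

end CfsgLib.ESevenOrders
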