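import Cfsg.Agent.ESevenOrders.Roots

/-!
# Reduction of a point modulo 13 to the closed alcove of E7
-/

set_option autoImplicit false

namespace CfsgLib.ESevenOrders

open Cfsg.Lie CfsgLib.Chevalley

/-- The value of a point on a root. -/
def V (a : Nd → ℤ) (r : Rt) : ℤ := ∑ i : Nd, co r i * a i

theorem V_simple (a : Nd → ℤ) (j : Nd) : V a (pRoot goodE j) = a j := by
  simp [V, co_simple]

/-- The pairing is linear in its second argument. -/
theorem pr_linear (r s : Rt) :
    pr r s = ∑ i : Nd, co s i * pr r (pRoot goodE i) := by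
  simp only [← pairing_eq, pairing_eq_sum, Finset.mul_sum]
  rw [Finset.sum_comm]
  refine Finset.sum_congr rfl fun k _ => ?_
  rw [cartan_eq k s, Finset.mul_sum]
  exact Finset.sum_congr rfl fun i _ => by rw [cartan_simple]; ring

variable {C : Weyl.Cert chevE7.rank} {M : CoxeterMatrix (Fin chevE7.rank)} {R : Weyl.RootTable}
  (h : Weyl.RootGood C M R)

theorem V_perm (a : Nd → ℤ) (w : M.Group) (r : Rt) :
    V a (h.rootPerm w r) = V (fun i => V a (im h w i)) r := by
  simp only [V, Finset.mul_sum]
  rw [Finset.sum_comm]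
  refine Finset.sum_congr rfl fun k _ => ?_
  rw [co_perm h w r k, Finset.sum_mul]
  exact Finset.sum_congr rfl fun i _ => by ring

/-- The highest root. -/
def top : Rt := ⟨topIdx, by decide +kernel⟩

theorem top_word : ∃ (L : List Nd) (i : Nd), ((L.map (wPerm goodE)).prod) (pRoot goodE i) = top :=
  ⟨[⟨0, by decide +kernel⟩, ⟨2, by decide +kernel⟩, ⟨3, by decide +kernel⟩, ⟨4, by decide +kernel⟩,
    ⟨5, by decide +kernel⟩, ⟨6, by decide +kernel⟩, ⟨1, by decide +kernel⟩, ⟨3, by decide +kernel⟩,
    ⟨4, by decide +kernel⟩, ⟨5, by decide +kernel⟩, ⟨2, by decide +kernel⟩, ⟨3, by decide +kernel⟩,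
    ⟨4, by decide +kernel⟩, ⟨1, by decide +kernel⟩, ⟨3, by decide +kernel⟩, ⟨2, by decide +kernel⟩],
    ⟨0, by decide +kernel⟩, by decide +kernel⟩

include h in
theorem exists_top_refl : ∃ w : M.Group, ∀ (r : Rt) (k : Nd),
    co (h.rootPerm w r) k = co r k - pr top r * co top k := by
  obtain ⟨L, i, hL⟩ := top_word
  set u : M.Group := M.toCoxeterSystem.wordProd L
  have hu : h.rootPerm u = (L.map (wPerm goodE)).prod := by
    simp only [u, CoxeterSystem.wordProd, map_list_prod, List.map_map]
    refine congrArg List.prod (List.map_congr_left fun j _ => ?_)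
    simp [wPerm_eq_rootPerm goodE h]
  refine ⟨u * M.simple i * u⁻¹, fun r k => ?_⟩
  obtain ⟨x, rfl⟩ := (h.rootPerm u).surjective r
  rw [map_mul, map_mul, map_inv, Equiv.Perm.mul_apply, Equiv.Perm.mul_apply,
    show (h.rootPerm u)⁻¹ (h.rootPerm u x) = x from (h.rootPerm u).symm_apply_apply x,
    ← wPerm_eq_rootPerm goodE h, co_perm h u, co_perm h u x k]
  simp only [co_wPerm, sub_mul, Finset.sum_sub_distrib, ite_mul, zero_mul]
  rw [Finset.sum_ite_eq Finset.univ i, if_pos (Finset.mem_univ i)]
  congr 1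
  rw [show im h u i = top by rw [im, hu, hL]]
  congr 1
  rw [show top = h.rootPerm u (pRoot goodE i) by rw [hu, hL], pr_perm h, ← pairing_eq,
    goodE.pairing_pRoot]

theorem top_quad : (∀ i : Nd, ∑ r : Rt, pr top r * co r i = 36 * co top i) ∧
    ∑ r : Rt, pr top r * pr top r = 72 ∧ ∀ i : Nd, (marks.getD i 0 : ℤ) = co top i := by
  have h := chk_top
  simp only [List.all_eq_true, List.mem_range, Bool.and_eq_true, beq_iff_eq, decide_eq_true_eq] at h
  obtain ⟨h1, h2⟩ := h
  have e : ∀ (n : ℕ) (f : ℕ → ℤ), ((List.range n).map f).sum = ∑ r : Fin n, f r := fun n f => by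
    rw [← List.sum_toFinset _ List.nodup_range, List.toFinset_range]
    exact (Fin.sum_univ_eq_sum_range f n).symm
  have hn : chevE7.nroots = 126 := rfl
  refine ⟨fun i => ?_, ?_, fun i => (h1 i (nd_lt i)).2⟩
  · have := (e chevE7.nroots fun r => pr topIdx r * co r i)
    rw [hn, (h1 i (nd_lt i)).1] at this
    exact this.symm
  · have := (e chevE7.nroots fun r => pr topIdx r * pr topIdx r)
    rw [hn, h2] at this
    exact this.symm

/-- The norm. -/
def norm2 (a : Nd → ℤ) : ℤ := ∑ r : Rt, V a r ^ 2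

theorem norm2_nonneg (a : Nd → ℤ) : 0 ≤ norm2 a := Finset.sum_nonneg fun _ _ => sq_nonneg _

theorem norm2_perm (a : Nd → ℤ) (w : M.Group) :
    norm2 (fun i => V a (im h w i)) = norm2 a := by
  simp only [norm2, ← V_perm h a w]
  exact Equiv.sum_comp (h.rootPerm w) (fun r => V a r ^ 2)

/-- The height. -/
def hgt (a : Nd → ℤ) : ℤ := ∑ j : Nd, (∑ k : Nd, ca j k) * a j

theorem hgt_wPerm (a : Nd → ℤ) (i : Nd) :
    hgt (fun j => V a (wPerm goodE i (pRoot goodE j))) = hgt a - 2 * a i := by
  have e1 : ∀ j : Nd, V a (wPerm goodE i (pRoot goodE j)) = a j - cm i j * a i := fun j => by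
    simp [V, co_wPerm, sub_mul, Finset.sum_sub_distrib, co_simple, cartan_simple]
  have e2 : ∑ j : Nd, (∑ k : Nd, ca j k) * cm i j = 2 := by
    simp only [Finset.sum_mul]
    rw [Finset.sum_comm, Finset.sum_eq_single i]
    · rw [Finset.sum_congr rfl fun j _ => mul_comm _ _, (simple_facts i i).2.2.2.2, dl_eq,
        if_pos rfl, mul_one]
    · intro k _ hk
      rw [Finset.sum_congr rfl fun j _ => mul_comm _ _, (simple_facts i k).2.2.2.2, dl_eq,
        if_neg (Ne.symm hk), mul_zero]
    · simp
  simp only [hgt, e1, mul_sub, ← mul_assoc, Finset.sum_sub_distrib, ← Finset.sum_mul, e2]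

theorem hgt_le (a : Nd → ℤ) : hgt a ≤ (∑ j : Nd, |∑ k : Nd, ca j k|) * norm2 a := by
  rw [hgt, Finset.sum_mul]
  refine Finset.sum_le_sum fun j _ => (le_abs_self _).trans ?_
  rw [abs_mul]
  refine mul_le_mul_of_nonneg_left ?_ (abs_nonneg _)
  have h1 : a j ^ 2 ≤ norm2 a := by
    rw [← V_simple a j]
    exact Finset.single_le_sum (f := fun r => V a r ^ 2) (fun r _ => sq_nonneg _)
      (Finset.mem_univ (pRoot goodE j))
  have h2 : |a j| ≤ a j ^ 2 := by
    rw [← sq_abs]
    exact Int.le_self_sq _
  exact h2.trans h1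

include h in
/-- **Descent to the alcove**: a property of points invariant under the Weyl group and under
translations by multiples of 13 holds at some point of the closed alcove. -/
theorem exists_alcove (P : (Nd → ℤ) → Prop)
    (hs : ∀ (i : Nd) (a : Nd → ℤ), P a → P fun j => V a (wPerm goodE i (pRoot goodE j)))
    (ht : ∀ a b : Nd → ℤ, P a → (∀ i, (13 : ℤ) ∣ a i - b i) → P b) (hne : ∃ a, P a) :
    ∃ a, P a ∧ (∀ i, 0 ≤ a i) ∧ V a top ≤ 13 := by
  classical
  have hall : ∀ (w : M.Group) (a : Nd → ℤ), P a → P fun j => V a (im h w j) := by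
    intro w
    induction w using M.toCoxeterSystem.simple_induction_left with
    | one => intro a ha; simpa [im, V_simple] using ha
    | mul_simple_left w i ih =>
      intro a ha
      convert ih _ (hs i a ha) using 1
      funext j
      rw [im, map_mul, Equiv.Perm.mul_apply, CoxeterMatrix.toCoxeterSystem_simple,
        V_perm h a (M.simple i)]
      simp only [im, wPerm_eq_rootPerm goodE h]
  obtain ⟨a₀, ha₀⟩ := hne
  have hex : ∃ n : ℕ, ∃ a, P a ∧ (norm2 a).toNat = n := ⟨_, a₀, ha₀, rfl⟩
  obtain ⟨a₁, ha₁, hn₁⟩ := Nat.find_spec hex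
  set B := (∑ j : Nd, |∑ k : Nd, ca j k|) * norm2 a₁ with hB
  have hex2 : ∃ m : ℕ, ∃ a, P a ∧ norm2 a = norm2 a₁ ∧ (B - hgt a).toNat = m :=
    ⟨_, a₁, ha₁, rfl, rfl⟩
  obtain ⟨a, ha, hna, hm⟩ := Nat.find_spec hex2
  have hBa : 0 ≤ B - hgt a := by
    have := hgt_le a
    rw [hna] at this
    rw [hB]; omega
  refine ⟨a, ha, fun i => ?_, ?_⟩
  · by_contra hlt
    have h1 := hgt_wPerm a i
    have h2 : norm2 (fun j => V a (wPerm goodE i (pRoot goodE j))) = norm2 a := by
      rw [wPerm_eq_rootPerm goodE h]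
      exact norm2_perm h a (M.simple i)
    have h3 := Nat.find_min' hex2 ⟨_, hs i a ha, h2.trans hna, rfl⟩
    have h4 := hgt_le (fun j => V a (wPerm goodE i (pRoot goodE j)))
    rw [h2, hna] at h4
    rw [← hm, h1] at h3
    rw [h1] at h4
    rw [hB] at h3 hBa
    omega
  · by_contra hlt
    obtain ⟨w, hw⟩ := exists_top_refl h
    set d := V a top - 13
    set b : Nd → ℤ := fun j => V a (im h w j) + 13 * pr top (pRoot goodE j)
    have hb : P b := ht _ _ (hall w a ha) fun i => ⟨-pr top (pRoot goodE i), by simp [b]⟩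
    have hVb : ∀ r : Rt, V b r = V a r - d * pr top r := by
      intro r
      have e : V a (h.rootPerm w r) = V a r - pr top r * V a top := by
        simp only [V, hw, sub_mul, Finset.sum_sub_distrib, Finset.mul_sum, mul_assoc]
      have e' := V_perm h a w r
      simp only [b, V, mul_add, Finset.sum_add_distrib] at e e' ⊢
      rw [← e', e, show ∑ i : Nd, co r i * (13 * pr top (pRoot goodE i)) = 13 * pr top r by
        rw [pr_linear top r, Finset.mul_sum]; exact Finset.sum_congr rfl fun i _ => by ring]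
      simp only [d, V]; ring
    have hsum : ∑ r : Rt, pr top r * V a r = 36 * V a top := by
      simp only [V, Finset.mul_sum]
      rw [Finset.sum_comm]
      refine Finset.sum_congr rfl fun i _ => ?_
      rw [← mul_assoc, ← top_quad.1 i, Finset.sum_mul]
      exact Finset.sum_congr rfl fun r _ => by ring
    have hQ : norm2 b = norm2 a - 72 * d * V a top + 72 * (d * d) := by
      calc norm2 b = ∑ r : Rt, (V a r ^ 2 - 2 * d * (pr top r * V a r)
            + d * d * (pr top r * pr top r)) :=
            Finset.sum_congr rfl fun r _ => by rw [hVb]; ring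
        _ = norm2 a - 2 * d * (36 * V a top) + d * d * 72 := by
            rw [Finset.sum_add_distrib, Finset.sum_sub_distrib, ← Finset.mul_sum, ← Finset.mul_sum,
              hsum, top_quad.2.1, norm2]
        _ = _ := by ring
    have hd : 0 < d := by simp only [d]; omega
    have hdec : norm2 b < norm2 a := by
      rw [hQ]
      have : d * d = d * V a top - 13 * d := by simp only [d]; ring
      rw [this]; ring_nf; linarith
    have h5 := Nat.find_min' hex ⟨b, hb, rfl⟩
    rw [← hn₁, ← hna] at h5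
    have := norm2_nonneg b
    omega

end CfsgLib.ESevenOrders
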