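/-!
# Tables for elements of order 65 in E7(2)

Root coordinates of E7, the Cartan matrix with twice its inverse, and inverse matrices mod 5.
-/

set_option autoImplicit false

namespace CfsgLib.ESevenOrders

/-- The coordinates of the roots on the fundamental roots. -/
def coTab : List (List Int) :=
  [[-2, -2, -3, -4, -3, -2, -1],
   [-1, -2, -3, -4, -3, -2, -1],
   [-1, -2, -2, -4, -3, -2, -1],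
   [-1, -2, -2, -3, -3, -2, -1],
   [-1, -2, -2, -3, -2, -2, -1],
   [-1, -2, -2, -3, -2, -1, -1],
   [-1, -2, -2, -3, -2, -1, 0],
   [-1, -1, -2, -3, -3, -2, -1],
   [-1, -1, -2, -3, -2, -2, -1],
   [-1, -1, -2, -3, -2, -1, -1],
   [-1, -1, -2, -3, -2, -1, 0],
   [-1, -1, -2, -2, -2, -2, -1],
   [-1, -1, -2, -2, -2, -1, -1],
   [-1, -1, -2, -2, -2, -1, 0],
   [-1, -1, -2, -2, -1, -1, -1],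
   [-1, -1, -2, -2, -1, -1, 0],
   [-1, -1, -2, -2, -1, 0, 0],
   [-1, -1, -1, -2, -2, -2, -1],
   [-1, -1, -1, -2, -2, -1, -1],
   [-1, -1, -1, -2, -2, -1, 0],
   [-1, -1, -1, -2, -1, -1, -1],
   [-1, -1, -1, -2, -1, -1, 0],
   [-1, -1, -1, -2, -1, 0, 0],
   [-1, -1, -1, -1, -1, -1, -1],
   [-1, -1, -1, -1, -1, -1, 0],
   [-1, -1, -1, -1, -1, 0, 0],
   [-1, -1, -1, -1, 0, 0, 0],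
   [-1, 0, -1, -1, -1, -1, -1],
   [-1, 0, -1, -1, -1, -1, 0],
   [-1, 0, -1, -1, -1, 0, 0],
   [-1, 0, -1, -1, 0, 0, 0],
   [-1, 0, -1, 0, 0, 0, 0],
   [-1, 0, 0, 0, 0, 0, 0],
   [0, -1, -1, -2, -2, -2, -1],
   [0, -1, -1, -2, -2, -1, -1],
   [0, -1, -1, -2, -2, -1, 0],
   [0, -1, -1, -2, -1, -1, -1],
   [0, -1, -1, -2, -1, -1, 0],
   [0, -1, -1, -2, -1, 0, 0],
   [0, -1, -1, -1, -1, -1, -1],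
   [0, -1, -1, -1, -1, -1, 0],
   [0, -1, -1, -1, -1, 0, 0],
   [0, -1, -1, -1, 0, 0, 0],
   [0, -1, 0, -1, -1, -1, -1],
   [0, -1, 0, -1, -1, -1, 0],
   [0, -1, 0, -1, -1, 0, 0],
   [0, -1, 0, -1, 0, 0, 0],
   [0, -1, 0, 0, 0, 0, 0],
   [0, 0, -1, -1, -1, -1, -1],
   [0, 0, -1, -1, -1, -1, 0],
   [0, 0, -1, -1, -1, 0, 0],
   [0, 0, -1, -1, 0, 0, 0],
   [0, 0, -1, 0, 0, 0, 0],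
   [0, 0, 0, -1, -1, -1, -1],
   [0, 0, 0, -1, -1, -1, 0],
   [0, 0, 0, -1, -1, 0, 0],
   [0, 0, 0, -1, 0, 0, 0],
   [0, 0, 0, 0, -1, -1, -1],
   [0, 0, 0, 0, -1, -1, 0],
   [0, 0, 0, 0, -1, 0, 0],
   [0, 0, 0, 0, 0, -1, -1],
   [0, 0, 0, 0, 0, -1, 0],
   [0, 0, 0, 0, 0, 0, -1],
   [0, 0, 0, 0, 0, 0, 1],
   [0, 0, 0, 0, 0, 1, 0],
   [0, 0, 0, 0, 0, 1, 1],
   [0, 0, 0, 0, 1, 0, 0],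
   [0, 0, 0, 0, 1, 1, 0],
   [0, 0, 0, 0, 1, 1, 1],
   [0, 0, 0, 1, 0, 0, 0],
   [0, 0, 0, 1, 1, 0, 0],
   [0, 0, 0, 1, 1, 1, 0],
   [0, 0, 0, 1, 1, 1, 1],
   [0, 0, 1, 0, 0, 0, 0],
   [0, 0, 1, 1, 0, 0, 0],
   [0, 0, 1, 1, 1, 0, 0],
   [0, 0, 1, 1, 1, 1, 0],
   [0, 0, 1, 1, 1, 1, 1],
   [0, 1, 0, 0, 0, 0, 0],
   [0, 1, 0, 1, 0, 0, 0],
   [0, 1, 0, 1, 1, 0, 0],
   [0, 1, 0, 1, 1, 1, 0],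
   [0, 1, 0, 1, 1, 1, 1],
   [0, 1, 1, 1, 0, 0, 0],
   [0, 1, 1, 1, 1, 0, 0],
   [0, 1, 1, 1, 1, 1, 0],
   [0, 1, 1, 1, 1, 1, 1],
   [0, 1, 1, 2, 1, 0, 0],
   [0, 1, 1, 2, 1, 1, 0],
   [0, 1, 1, 2, 1, 1, 1],
   [0, 1, 1, 2, 2, 1, 0],
   [0, 1, 1, 2, 2, 1, 1],
   [0, 1, 1, 2, 2, 2, 1],
   [1, 0, 0, 0, 0, 0, 0],
   [1, 0, 1, 0, 0, 0, 0],
   [1, 0, 1, 1, 0, 0, 0],
   [1, 0, 1, 1, 1, 0, 0],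
   [1, 0, 1, 1, 1, 1, 0],
   [1, 0, 1, 1, 1, 1, 1],
   [1, 1, 1, 1, 0, 0, 0],
   [1, 1, 1, 1, 1, 0, 0],
   [1, 1, 1, 1, 1, 1, 0],
   [1, 1, 1, 1, 1, 1, 1],
   [1, 1, 1, 2, 1, 0, 0],
   [1, 1, 1, 2, 1, 1, 0],
   [1, 1, 1, 2, 1, 1, 1],
   [1, 1, 1, 2, 2, 1, 0],
   [1, 1, 1, 2, 2, 1, 1],
   [1, 1, 1, 2, 2, 2, 1],
   [1, 1, 2, 2, 1, 0, 0],
   [1, 1, 2, 2, 1, 1, 0],
   [1, 1, 2, 2, 1, 1, 1],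
   [1, 1, 2, 2, 2, 1, 0],
   [1, 1, 2, 2, 2, 1, 1],
   [1, 1, 2, 2, 2, 2, 1],
   [1, 1, 2, 3, 2, 1, 0],
   [1, 1, 2, 3, 2, 1, 1],
   [1, 1, 2, 3, 2, 2, 1],
   [1, 1, 2, 3, 3, 2, 1],
   [1, 2, 2, 3, 2, 1, 0],
   [1, 2, 2, 3, 2, 1, 1],
   [1, 2, 2, 3, 2, 2, 1],
   [1, 2, 2, 3, 3, 2, 1],
   [1, 2, 2, 4, 3, 2, 1],
   [1, 2, 3, 4, 3, 2, 1],
   [2, 2, 3, 4, 3, 2, 1]]

/-- The indices of the fundamental roots. -/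
def sTab : List Nat := [93, 78, 73, 69, 66, 64, 63]

/-- The index of the highest root. -/
def topIdx : Nat := 125

/-- A fundamental root and a word of reflections carrying it to the highest root. -/
def topWord : Nat × List Nat := (0, [0, 2, 3, 4, 5, 6, 1, 3, 4, 5, 2, 3, 4, 1, 3, 2])

/-- The Cartan matrix. -/
def cmTab : List (List Int) :=
  [[2, 0, -1, 0, 0, 0, 0],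
   [0, 2, 0, -1, 0, 0, 0],
   [-1, 0, 2, -1, 0, 0, 0],
   [0, -1, -1, 2, -1, 0, 0],
   [0, 0, 0, -1, 2, -1, 0],
   [0, 0, 0, 0, -1, 2, -1],
   [0, 0, 0, 0, 0, -1, 2]]

/-- Twice the inverse of the Cartan matrix. -/
def caTab : List (List Int) :=
  [[4, 4, 6, 8, 6, 4, 2],
   [4, 7, 8, 12, 9, 6, 3],
   [6, 8, 12, 16, 12, 8, 4],
   [8, 12, 16, 24, 18, 12, 6],
   [6, 9, 12, 18, 15, 10, 5],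
   [4, 6, 8, 12, 10, 8, 4],
   [2, 3, 4, 6, 5, 4, 3]]

/-- Inverses mod 5 of the matrices `2 w - 1`. -/
def invTab : List (List (List Int)) :=
  [[[2, 4, 4, 2, 1, 4, 0], [1, 4, 3, 2, 4, 1, 3], [2, 0, 1, 4, 3, 2, 1], [1, 4, 4, 4, 3, 2, 4], [0, 4, 4, 3, 1, 3, 2], [0, 4, 4, 3, 0, 2, 2], [0, 3, 3, 1, 0, 4, 3]],
   [[4, 4, 0, 1, 4, 1, 1], [3, 4, 4, 1, 2, 3, 4], [4, 0, 2, 3, 1, 4, 2], [4, 4, 3, 0, 0, 0, 3], [0, 4, 4, 3, 1, 3, 2], [0, 4, 4, 3, 0, 2, 2], [0, 3, 3, 1, 0, 4, 3]],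
   [[4, 2, 0, 1, 4, 1, 1], [2, 3, 1, 4, 3, 2, 1], [4, 3, 2, 3, 1, 4, 2], [2, 3, 2, 1, 2, 3, 2], [0, 4, 4, 3, 1, 3, 2], [0, 4, 4, 3, 0, 2, 2], [0, 3, 3, 1, 0, 4, 3]],
   [[2, 3, 4, 2, 1, 4, 0], [4, 2, 2, 3, 1, 4, 2], [2, 4, 1, 4, 3, 2, 1], [2, 3, 2, 1, 2, 3, 2], [0, 4, 4, 3, 1, 3, 2], [0, 4, 4, 3, 0, 2, 2], [0, 3, 3, 1, 0, 4, 3]],
   [[3, 4, 0, 4, 0, 0, 3], [3, 4, 0, 1, 2, 3, 4], [1, 0, 0, 2, 4, 1, 3], [3, 4, 1, 3, 1, 4, 0], [0, 4, 4, 3, 1, 3, 2], [0, 4, 4, 3, 0, 2, 2], [0, 3, 3, 1, 0, 4, 3]],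
   [[4, 4, 0, 1, 4, 1, 1], [1, 4, 0, 2, 4, 1, 3], [3, 0, 0, 1, 2, 3, 4], [3, 4, 1, 3, 1, 4, 0], [0, 4, 4, 3, 1, 3, 2], [0, 4, 4, 3, 0, 2, 2], [0, 3, 3, 1, 0, 4, 3]],
   [[4, 2, 0, 1, 4, 1, 1], [4, 2, 0, 3, 1, 4, 2], [3, 1, 0, 1, 2, 3, 4], [4, 2, 1, 0, 0, 0, 3], [0, 4, 4, 3, 1, 3, 2], [0, 4, 4, 3, 0, 2, 2], [0, 3, 3, 1, 0, 4, 3]],
   [[3, 0, 0, 4, 0, 0, 3], [2, 3, 0, 4, 3, 2, 1], [1, 2, 0, 2, 4, 1, 3], [1, 1, 1, 4, 3, 2, 4], [0, 4, 4, 3, 1, 3, 2], [0, 4, 4, 3, 0, 2, 2], [0, 3, 3, 1, 0, 4, 3]],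
   [[3, 0, 4, 0, 3, 1, 3], [0, 1, 0, 0, 3, 0, 1], [4, 0, 0, 0, 3, 1, 3], [4, 4, 1, 3, 1, 3, 0], [0, 4, 0, 0, 1, 0, 2], [4, 3, 1, 2, 1, 2, 2], [0, 2, 0, 0, 1, 0, 1]],
   [[3, 0, 4, 0, 3, 1, 3], [0, 3, 0, 0, 4, 0, 3], [4, 0, 0, 0, 3, 1, 3], [4, 1, 1, 3, 2, 3, 2], [0, 3, 0, 0, 3, 0, 1], [4, 0, 1, 2, 2, 2, 4], [0, 4, 0, 0, 2, 0, 3]],
   [[3, 0, 4, 0, 3, 1, 3], [0, 3, 0, 0, 4, 0, 2], [4, 0, 0, 0, 3, 1, 3], [4, 1, 1, 3, 2, 3, 1], [0, 3, 0, 0, 3, 0, 4], [4, 4, 1, 2, 4, 2, 0], [0, 1, 0, 0, 3, 0, 3]],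
   [[3, 0, 4, 0, 3, 1, 3], [0, 1, 0, 0, 3, 0, 4], [4, 0, 0, 0, 3, 1, 3], [4, 4, 1, 3, 1, 3, 3], [0, 4, 0, 0, 1, 0, 3], [4, 0, 1, 2, 2, 2, 4], [0, 3, 0, 0, 4, 0, 1]],
   [[3, 0, 4, 0, 3, 1, 3], [0, 3, 0, 0, 1, 0, 2], [4, 0, 0, 0, 3, 1, 3], [4, 4, 1, 3, 1, 3, 0], [0, 2, 0, 0, 3, 0, 1], [4, 2, 1, 2, 2, 2, 4], [0, 1, 0, 0, 2, 0, 3]],
   [[3, 0, 4, 0, 3, 1, 3], [0, 1, 0, 0, 2, 0, 4], [4, 0, 0, 0, 3, 1, 3], [4, 3, 1, 3, 4, 3, 1], [0, 1, 0, 0, 1, 0, 2], [4, 4, 1, 2, 1, 2, 2], [0, 3, 0, 0, 1, 0, 1]],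
   [[3, 0, 4, 0, 3, 1, 3], [0, 1, 0, 0, 2, 0, 1], [4, 0, 0, 0, 3, 1, 3], [4, 3, 1, 3, 4, 3, 2], [0, 1, 0, 0, 1, 0, 3], [4, 2, 1, 2, 2, 2, 4], [0, 2, 0, 0, 4, 0, 1]],
   [[3, 0, 4, 0, 3, 1, 3], [0, 3, 0, 0, 1, 0, 3], [4, 0, 0, 0, 3, 1, 3], [4, 4, 1, 3, 1, 3, 3], [0, 2, 0, 0, 3, 0, 4], [4, 3, 1, 2, 4, 2, 0], [0, 4, 0, 0, 3, 0, 3]]]

end CfsgLib.ESevenOrders
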