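import Mathlib
import Cfsg.Agent.ESevenOrders.Data
import Cfsg.Prelude.Def_ChevE7

/-!
# The finite checks for elements of order 65 in E7(2)

Points of the closed alcove modulo 13, the search for the root maps that multiply such a point
by a given factor, and the checks on the maps found.
-/

set_option autoImplicit false

namespace CfsgLib.ESevenOrders

open Cfsg.Lie

/-- Read a table. -/
def tab (L : List (List ℤ)) (i j : ℕ) : ℤ := (L.getD i []).getD j 0

/-- The coefficient of a fundamental root in a root. -/
def co (r i : ℕ) : ℤ := tab coTab r i

/-- The Cartan matrix. -/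
def cm (i j : ℕ) : ℤ := tab cmTab i j

/-- Twice the inverse of the Cartan matrix. -/
def ca (i j : ℕ) : ℤ := tab caTab i j

/-- The index of a fundamental root. -/
def sx (i : ℕ) : ℕ := sTab.getD i 0

/-- A sum over the seven nodes. -/
def sum7 (f : ℕ → ℤ) : ℤ := ((List.range 7).map f).sum

theorem sum7_eq (f : ℕ → ℤ) : sum7 f = ∑ i : Fin 7, f i := by
  simp [sum7, Fin.sum_univ_seven, List.range_succ]
  ring

/-- The Kronecker delta. -/
def dl (i k : ℕ) : ℤ := bif i == k then 1 else 0

/-- The inner product of two roots. -/
def pr (r s : ℕ) : ℤ := sum7 fun i => co r i * sum7 fun j => cm i j * co s j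

/-- The inner product of two lists. -/
def dotL : List ℤ → List ℤ → ℤ
  | x :: xs, y :: ys => x * y + dotL xs ys
  | _, _ => 0

/-- The quadratic form vanishes modulo 13. -/
def quad (l : List ℤ) : Bool := dotL l (caTab.map fun row => dotL row l) % 13 == 0

/-- The values of a point on all the roots, modulo 13. -/
def valsOf (l : List ℤ) : List ℤ := coTab.map fun row => dotL row l % 13

/-- The multiset of values modulo 13 is invariant under doubling. -/
def balanced (L : List ℤ) : Bool :=
  (List.range 13).all fun x =>
    L.countP (fun y => y == (x : ℤ)) == L.countP (fun y => y == (2 * (x : ℤ)) % 13)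

/-- The possible images of a fundamental root with value `t`, with their coordinates. -/
def cands (f : ℤ) (V : List ℤ) (t : ℤ) : List (ℕ × List ℤ) :=
  (((List.range 126).zip coTab).zip V).filterMap fun x =>
    bif (f * x.2 - t) % 13 == 0 then some x.1 else none

/-- The weights of a vector. -/
def wts (row : List ℤ) : List ℤ := cmTab.map fun c => dotL c row

/-- One level of the search. -/
def step (f : ℤ) (l V : List ℤ) (L : List (List (ℕ × List ℤ))) (i : ℕ) :
    List (List (ℕ × List ℤ)) :=
  L.flatMap fun p => ((cands f V (l.getD i 0)).filter fun r =>
    (List.range i).all fun j => dotL (p.getD j (0, [])).2 (wts r.2) == cm j i).map fun r => p ++ [r]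

/-- The images of the fundamental roots under the maps multiplying the point by the inverse of
`f`. -/
def leaves (f : ℤ) (l V : List ℤ) : List (List ℕ) :=
  ((List.range 7).foldl (step f l V) [[]]).map fun p => p.map Prod.fst

/-- `2 w - 1` is invertible modulo 5. -/
def killOK (p : List ℕ) : Bool :=
  invTab.any fun B => (List.range 7).all fun i => (List.range 7).all fun k =>
    (sum7 (fun j => tab B i j * (2 * co (p.getD j 0) k - dl j k)) - dl i k) % 5 == 0

/-- The map is an involution. -/
def invOK (p : List ℕ) : Bool :=
  (List.range 7).all fun i => (List.range 7).all fun k =>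
    sum7 (fun j => co (p.getD i 0) j * co (p.getD j 0) k) == dl i k

/-- The point is zero modulo 13. -/
def trivialPt (l : List ℤ) : Bool := l.all fun x => x % 13 == 0

/-- The check at a point with given values. -/
def chkVals (l V : List ℤ) : Bool :=
  !balanced V || ((leaves 2 l V).all killOK && (leaves 1 l V).all invOK)

/-- The check at a point. -/
def chkPt (l : List ℤ) : Bool :=
  trivialPt l || !quad l || chkVals l (valsOf l)

/-- The lists with bounded weighted sum. -/
def pts : List ℕ → ℕ → List (List ℕ)
  | [], _ => [[]]
  | m :: ms, b => (List.range (b / m + 1)).flatMap fun x =>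
      (pts ms (b - m * x)).map fun l => x :: l

/-- The marks. -/
def marks : List ℕ := [2, 2, 3, 4, 3, 2, 1]

theorem chk_pts : (pts marks 13).all (fun l => chkPt (l.map fun x : ℕ => (x : ℤ))) = true := by
  decide +kernel

theorem chk_cartan :
    (List.range 126).all (fun r => (List.range 7).all fun k =>
      sum7 (fun i => co r i * cm k i) == (chevE7.cartanSR.getD k #[]).getD r 0) = true := by
  decide +kernel

theorem chk_coroot :
    (List.range 126).all (fun r => (List.range 7).all fun k =>
      co r k == (chevE7.coroot.getD r #[]).getD k 0) = true := by
  decide +kernel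

theorem chk_simple :
    (List.range 7).all (fun i => chevE7.simpleIdx.getD i 0 == sx i &&
      (List.range 7).all fun k => co (sx i) k == dl i k && cm i k == cm k i &&
        sum7 (fun j => ca i j * cm j k) == 2 * dl i k &&
        sum7 (fun j => cm i j * ca j k) == 2 * dl i k) = true := by
  decide +kernel

/-- Only the fundamental root itself has its coordinates modulo 11. -/
theorem chk_mod_eleven :
    (List.range 126).all (fun r => (List.range 7).all fun i =>
      r == sx i || (List.range 7).any fun k => !((co r k - dl i k) % 11 == 0)) = true := by
  decide +kernel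

/-- Each root has coprime coordinates in the weights. -/
theorem chk_weights :
    (List.range 126).all (fun r =>
      ((List.range 7).any fun k => !((sum7 fun i => co r i * cm k i) % 13 == 0)) &&
      (List.range 7).any fun k => !((sum7 fun i => co r i * cm k i) % 5 == 0)) = true := by
  decide +kernel

/-- The quadratic identities at the highest root. -/
theorem chk_top :
    (List.range 7).all (fun i =>
      ((List.range 126).map fun r => pr topIdx r * co r i).sum == 36 * co topIdx i &&
      (marks.getD i 0 : ℤ) == co topIdx i) &&
    (((List.range 126).map fun r => pr topIdx r * pr topIdx r).sum == 72) = true := by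
  decide +kernel

theorem chk_top_self : pr topIdx topIdx = 2 := by decide +kernel

end CfsgLib.ESevenOrders
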