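import Cfsg.Agent.ESevenOrders.Alcove

/-!
# Points of the alcove whose multiples by two lie in the same orbit
-/

set_option autoImplicit false

namespace CfsgLib.ESevenOrders

open Cfsg.Lie CfsgLib.Chevalley

/-- The weighted sum. -/
def dotN : List ℕ → List ℕ → ℕ
  | x :: xs, y :: ys => x * y + dotN xs ys
  | _, _ => 0

theorem mem_pts : ∀ (ms l : List ℕ) (b : ℕ), l.length = ms.length → (∀ m ∈ ms, 0 < m) →
    dotN ms l ≤ b → l ∈ pts ms b
  | [], [], _, _, _, _ => by simp [pts]
  | m :: ms, x :: xs, b, hl, hm, hb => by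
    simp only [dotN] at hb
    have hm0 : 0 < m := hm m (by simp)
    simp only [pts, List.mem_flatMap, List.mem_range, List.mem_map]
    refine ⟨x, Nat.lt_succ_of_le ((Nat.le_div_iff_mul_le hm0).2 ?_), xs,
      mem_pts ms xs _ (by simpa using hl) (fun y hy => hm y (List.mem_cons_of_mem _ hy)) (by omega),
      rfl⟩
    rw [Nat.mul_comm]; omega
  | [], _ :: _, _, hl, _, _ => by simp at hl
  | _ :: _, [], _, hl, _, _ => by simp at hl

theorem dotL_ofFn : ∀ {n : ℕ} (f g : Fin n → ℤ),
    dotL (List.ofFn f) (List.ofFn g) = ∑ i, f i * g i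
  | 0, f, g => by simp [dotL]
  | n + 1, f, g => by
    rw [List.ofFn_succ, List.ofFn_succ, dotL, dotL_ofFn, Fin.sum_univ_succ]

theorem dotN_ofFn : ∀ {n : ℕ} (f g : Fin n → ℕ),
    dotN (List.ofFn f) (List.ofFn g) = ∑ i, f i * g i
  | 0, f, g => by simp [dotN]
  | n + 1, f, g => by
    rw [List.ofFn_succ, List.ofFn_succ, dotN, dotN_ofFn, Fin.sum_univ_succ]

theorem countP_ofFn : ∀ {n : ℕ} {α : Type} (f : Fin n → α) (p : α → Bool),
    (List.ofFn f).countP p = ∑ i, if p (f i) then 1 else 0
  | 0, _, f, p => by simp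
  | n + 1, _, f, p => by
    rw [List.ofFn_succ, List.countP_cons, countP_ofFn, Fin.sum_univ_succ, add_comm]

/-- The coordinates of a root. -/
def rowOf (r : Rt) : List ℤ := List.ofFn fun k : Nd => co r k

theorem getD_ofFn {α : Type} {n : ℕ} (f : Fin n → α) (i : Fin n) (d : α) :
    (List.ofFn f).getD i d = f i := by
  rw [List.getD_eq_getElem _ _ (by rw [List.length_ofFn]; exact i.isLt), List.getElem_ofFn]

theorem coTab_eq : coTab = List.ofFn rowOf := by
  refine List.ext_getElem (by rw [List.length_ofFn]; exact rows_length.1) fun r h1 h2 => ?_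
  rw [List.getElem_ofFn]
  have l1 := rows_length.2 _ (List.getElem_mem h1)
  refine List.ext_getElem (by rw [rowOf, List.length_ofFn]; exact l1) fun k h3 h4 => ?_
  simp only [rowOf, List.getElem_ofFn, co, tab, List.getD_eq_getElem _ _ h1,
    List.getD_eq_getElem _ _ h3]

theorem tab_eq {L : List (List ℤ)} (h : L.length = 7 ∧ ∀ row ∈ L, row.length = 7) :
    L = List.ofFn fun i : Nd => List.ofFn fun k : Nd => tab L i k := by
  refine List.ext_getElem (by rw [List.length_ofFn]; exact h.1) fun i h1 h2 => ?_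
  rw [List.getElem_ofFn]
  have l1 := h.2 _ (List.getElem_mem h1)
  refine List.ext_getElem (by rw [List.length_ofFn]; exact l1) fun k h3 h4 => ?_
  simp only [List.getElem_ofFn, tab, List.getD_eq_getElem _ _ h1, List.getD_eq_getElem _ _ h3]

theorem small_tabs : (cmTab.length = 7 ∧ ∀ row ∈ cmTab, row.length = 7) ∧
    (caTab.length = 7 ∧ ∀ row ∈ caTab, row.length = 7) := by decide +kernel

theorem chk_gram :
    (List.range 7).all (fun i => (List.range 7).all fun j =>
      (coTab.map fun row => row.getD i 0 * row.getD j 0).sum == 18 * ca i j) = true := by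
  decide +kernel

theorem gram (i j : Nd) : ∑ r : Rt, co r i * co r j = 18 * ca i j := by
  have h := chk_gram
  simp only [List.all_eq_true, List.mem_range, beq_iff_eq] at h
  rw [← h i (nd_lt i) j (nd_lt j), coTab_eq, List.map_ofFn, List.sum_ofFn]
  exact Finset.sum_congr rfl fun r _ => by simp only [Function.comp_apply, rowOf, getD_ofFn]

variable (a : Nd → ℤ)

/-- The point as a list. -/
def ptList : List ℤ := List.ofFn a

theorem valsOf_eq : valsOf (ptList a) = List.ofFn fun r : Rt => V a r % 13 := by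
  rw [valsOf, coTab_eq, List.map_ofFn]
  refine congrArg List.ofFn (funext fun r => ?_)
  simp only [Function.comp_apply, rowOf, ptList, dotL_ofFn, V]

theorem chkPt_of_nonneg (h0 : ∀ i, 0 ≤ a i) (h13 : V a top ≤ 13) :
    chkPt (ptList a) = true := by
  have hm : marks = List.ofFn fun i : Nd => marks.getD i 0 :=
    List.ext_getElem (by rw [List.length_ofFn]; rfl) fun i h1 h2 => by
      rw [List.getElem_ofFn, List.getD_eq_getElem _ _ h1]
  have hmem : (List.ofFn fun i : Nd => (a i).toNat) ∈ pts marks 13 := by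
    refine mem_pts _ _ _ (by rw [List.length_ofFn]; rfl) (by decide +kernel) ?_
    rw [hm, dotN_ofFn]
    have e : ((∑ i : Nd, marks.getD i 0 * (a i).toNat : ℕ) : ℤ) = V a top := by
      push_cast
      exact Finset.sum_congr rfl fun i _ => by rw [top_quad.2.2, Int.toNat_of_nonneg (h0 i)]
    exact Int.ofNat_le.1 (le_of_eq_of_le e h13)
  have h := List.all_eq_true.1 chk_pts _ hmem
  rw [List.map_ofFn] at h
  refine Eq.trans ?_ h
  rw [ptList]
  refine congrArg chkPt (congrArg List.ofFn (funext fun i => ?_))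
  simp [Int.toNat_of_nonneg (h0 i)]

variable {C : Weyl.Cert chevE7.rank} {M : CoxeterMatrix (Fin chevE7.rank)} {R : Weyl.RootTable}
  (h : Weyl.RootGood C M R)

theorem quad_of_fix {w : M.Group} (hw : ∀ r, (13 : ℤ) ∣ 2 * V a (h.rootPerm w r) - V a r) :
    quad (ptList a) = true := by
  have h1 : ∑ r : Rt, V a r ^ 2 = 18 * ∑ i : Nd, a i * ∑ j : Nd, ca i j * a j := by
    calc ∑ r : Rt, V a r ^ 2
        = ∑ r : Rt, ∑ i : Nd, ∑ j : Nd, co r i * co r j * (a i * a j) :=
          Finset.sum_congr rfl fun r _ => by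
            rw [V, sq, Finset.sum_mul_sum]
            exact Finset.sum_congr rfl fun i _ => Finset.sum_congr rfl fun j _ => by ring
      _ = ∑ i : Nd, ∑ j : Nd, 18 * ca i j * (a i * a j) := by
          rw [Finset.sum_comm]
          refine Finset.sum_congr rfl fun i _ => ?_
          rw [Finset.sum_comm]
          exact Finset.sum_congr rfl fun j _ => by rw [← Finset.sum_mul, gram]
      _ = _ := by
          simp only [Finset.mul_sum]
          exact Finset.sum_congr rfl fun i _ => Finset.sum_congr rfl fun j _ => by ring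
  have h2 : (13 : ℤ) ∣ 4 * ∑ r : Rt, V a r ^ 2 - ∑ r : Rt, V a r ^ 2 := by
    conv => rhs; lhs; rw [← Equiv.sum_comp (h.rootPerm w) (fun r => V a r ^ 2), Finset.mul_sum]
    rw [← Finset.sum_sub_distrib]
    refine Finset.dvd_sum fun r _ => ?_
    rw [show 4 * V a (h.rootPerm w r) ^ 2 - V a r ^ 2 =
      (2 * V a (h.rootPerm w r) - V a r) * (2 * V a (h.rootPerm w r) + V a r) by ring]
    exact Dvd.dvd.mul_right (hw r) _
  rw [h1, show ∀ x : ℤ, 4 * (18 * x) - 18 * x = 54 * x from fun x => by ring] at h2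
  have h3 : (13 : ℤ) ∣ ∑ i : Nd, a i * ∑ j : Nd, ca i j * a j := by omega
  rw [quad, tab_eq small_tabs.2, List.map_ofFn, ptList, dotL_ofFn, beq_iff_eq]
  simp only [Function.comp_apply, dotL_ofFn]
  exact Int.emod_eq_zero_of_dvd h3

theorem balanced_of_fix {w : M.Group}
    (hw : ∀ r, (13 : ℤ) ∣ 2 * V a (h.rootPerm w r) - V a r) :
    balanced (valsOf (ptList a)) = true := by
  rw [valsOf_eq, balanced, List.all_eq_true]
  intro x hx
  rw [beq_iff_eq, countP_ofFn, countP_ofFn]
  rw [← Equiv.sum_comp (h.rootPerm w) (fun r => if (V a r % 13 == (x : ℤ)) = true then 1 else 0)]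
  refine Finset.sum_congr rfl fun r _ => if_congr ?_ rfl rfl
  have h1 := hw r
  have h2 := List.mem_range.1 hx
  simp only [beq_iff_eq]
  omega

theorem mem_leaves (f : ℤ) {w : M.Group}
    (hw : ∀ r, (13 : ℤ) ∣ f * V a (h.rootPerm w r) - V a r) :
    (List.ofFn fun i : Nd => (im h w i : ℕ)) ∈ leaves f (ptList a) (valsOf (ptList a)) := by
  classical
  let B : ℕ → ℕ × List ℤ := fun j => if hj : j < chevE7.rank then
    ((im h w ⟨j, hj⟩ : ℕ), rowOf (im h w ⟨j, hj⟩)) else (0, [])
  have hB : ∀ i : Nd, B i = ((im h w i : ℕ), rowOf (im h w i)) := fun i => dif_pos i.isLt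
  have key : ∀ n ≤ 7, (List.range n).map B ∈
      (List.range n).foldl (step f (ptList a) (valsOf (ptList a))) [[]] := by
    intro n hn
    induction n with
    | zero => simp
    | succ n ih =>
      rw [List.range_succ, List.foldl_append, List.foldl_cons, List.foldl_nil, List.map_append,
        List.map_cons, List.map_nil, step, List.mem_flatMap]
      refine ⟨_, ih (by omega), List.mem_map.2 ⟨B n, List.mem_filter.2 ⟨?_, ?_⟩, rfl⟩⟩
      · obtain ⟨i, rfl⟩ : ∃ i : Nd, (i : ℕ) = n := ⟨⟨n, by show n < 7; omega⟩, rfl⟩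
        rw [hB, cands, List.mem_filterMap]
        set r := im h w i
        have hr := rt_lt r
        have hl1 : coTab.length = 126 := rows_length.1
        have hl2 : (valsOf (ptList a)).length = 126 := by rw [valsOf, List.length_map, hl1]
        refine ⟨(((r : ℕ), rowOf r), V a r % 13), List.mem_iff_getElem.2
          ⟨r, by simp only [List.length_zip, List.length_range, hl1, hl2]; omega, ?_⟩, ?_⟩
        · simp only [List.getElem_zip, List.getElem_range]
          simp only [valsOf_eq, List.getElem_ofFn, coTab_eq]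
        · rw [ptList, getD_ofFn, cond_eq_ite, if_pos]
          rw [beq_iff_eq]
          have h1 := hw (pRoot goodE i)
          rw [V_simple] at h1
          refine Int.emod_eq_zero_of_dvd ?_
          have e : f * (V a r % 13) - a i =
              (f * V a r - a i) - 13 * (f * (V a r / 13)) := by
            rw [Int.emod_def]; ring
          rw [e]
          exact dvd_sub h1 (dvd_mul_right _ _)
      · rw [List.all_eq_true]
        intro j hj
        rw [List.mem_range] at hj
        obtain ⟨i, rfl⟩ : ∃ i : Nd, (i : ℕ) = n := ⟨⟨n, by show n < 7; omega⟩, rfl⟩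
        obtain ⟨l, rfl⟩ : ∃ l : Nd, (l : ℕ) = j := ⟨⟨j, hj.trans i.isLt⟩, rfl⟩
        rw [List.getD_eq_getElem _ _ (by simp [hj]), List.getElem_map, List.getElem_range, hB, hB,
          beq_iff_eq, wts, tab_eq small_tabs.1, List.map_ofFn, rowOf, dotL_ofFn]
        simp only [Function.comp_apply, rowOf, dotL_ofFn]
        have e := pr_perm h w (pRoot goodE l) (pRoot goodE i)
        rw [pr_linear (pRoot goodE l) (pRoot goodE i)] at e
        simp only [co_simple] at e
        simp only [ite_mul, one_mul, zero_mul, Finset.sum_ite_eq, Finset.mem_univ, if_true] at e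
        rw [← pairing_eq, ← pairing_eq, goodE.pairing_pRoot, cartan_simple, pairing_eq_sum] at e
        refine Eq.trans ?_ e
        refine Finset.sum_congr rfl fun k _ => ?_
        rw [coroot_eq, cartan_eq]
        exact congrArg _ (Finset.sum_congr rfl fun m _ => mul_comm _ _)
  have h7 := List.mem_map_of_mem (f := List.map Prod.fst) (key 7 le_rfl)
  rw [leaves]
  convert h7 using 1
  rw [List.map_map]
  refine List.ext_getElem (by simp only [List.length_ofFn, List.length_map, List.length_range]; rfl)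
    fun k h1 h2 => ?_
  rw [List.getElem_ofFn, List.getElem_map, List.getElem_range, Function.comp_apply,
    show B k = _ from hB ⟨k, by rwa [List.length_ofFn] at h1⟩]

/-- The conclusions of the check. -/
theorem point_facts (h0 : ∀ i, 0 ≤ a i) (h13 : V a top ≤ 13) (hne : ∃ i, ¬ (13 : ℤ) ∣ a i)
    {w : M.Group} (hw : ∀ r, (13 : ℤ) ∣ 2 * V a (h.rootPerm w r) - V a r) :
    (∀ x : Nd → ZMod 5, (∀ i, 2 * ∑ k : Nd, (co (im h w i) k : ZMod 5) * x k = x i) → x = 0) ∧
      ∀ u : M.Group, (∀ r, (13 : ℤ) ∣ V a (h.rootPerm u r) - V a r) → u * u = 1 := by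
  have hc := chkPt_of_nonneg a h0 h13
  have hq := quad_of_fix a h hw
  have hb := balanced_of_fix a h hw
  have ht : trivialPt (ptList a) = false := by
    obtain ⟨i, hi⟩ := hne
    rw [trivialPt, List.all_eq_false]
    exact ⟨a i, List.mem_ofFn.2 ⟨i, rfl⟩, by simpa [← Int.dvd_iff_emod_eq_zero] using hi⟩
  simp only [chkPt, chkVals, ht, hq, hb, Bool.not_true, Bool.false_or, Bool.and_eq_true,
    List.all_eq_true] at hc
  refine ⟨fun x hx => ?_, fun u hu => ?_⟩
  · have h1 := hc.1 _ (mem_leaves a h 2 hw)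
    simp only [killOK, List.any_eq_true, List.all_eq_true, List.mem_range, beq_iff_eq] at h1
    obtain ⟨B, -, hB⟩ := h1
    have hB' : ∀ i k : Nd, ∑ j : Nd, ((tab B i j : ℤ) : ZMod 5) *
        (2 * (co (im h w j) k : ZMod 5) - if j = k then 1 else 0) = if i = k then 1 else 0 := by
      intro i k
      have h2 := hB i (nd_lt i) k (nd_lt k)
      rw [← Int.dvd_iff_emod_eq_zero, sum7_eq,
        show (5 : ℤ) = ((5 : ℕ) : ℤ) from rfl, ← ZMod.intCast_zmod_eq_zero_iff_dvd,
        Int.cast_sub, sub_eq_zero, Int.cast_sum] at h2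
      rw [show ((if i = k then 1 else 0 : ZMod 5)) = ((dl i k : ℤ) : ZMod 5) by
        rw [dl_eq]; split_ifs <;> simp, ← h2]
      refine Finset.sum_congr rfl fun j _ => ?_
      rw [getD_ofFn]
      push_cast
      rw [dl_eq]; split_ifs <;> simp
    funext i
    have h3 : x i = ∑ k : Nd, (if i = k then 1 else 0 : ZMod 5) * x k := by simp
    rw [h3, Pi.zero_apply]
    rw [Finset.sum_congr rfl fun k _ => by rw [← hB' i k, Finset.sum_mul]]
    rw [Finset.sum_comm]
    refine Finset.sum_eq_zero fun j _ => ?_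
    simp only [mul_assoc, ← Finset.mul_sum, sub_mul, Finset.sum_sub_distrib, ite_mul, one_mul,
      zero_mul, Finset.sum_ite_eq, Finset.mem_univ, if_true]
    rw [hx j, sub_self, mul_zero]
  · have h1 := hc.2 _ (mem_leaves a h 1 (by simpa using hu))
    simp only [invOK, List.all_eq_true, List.mem_range, beq_iff_eq] at h1
    refine eq_one_of_im h fun i k => ?_
    have h2 := h1 i (nd_lt i) k (nd_lt k)
    rw [sum7_eq, dl_eq] at h2
    rw [im, map_mul, Equiv.Perm.mul_apply, co_perm h u, ← h2]
    refine Finset.sum_congr rfl fun j _ => ?_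
    rw [getD_ofFn, getD_ofFn]
    rfl

end CfsgLib.ESevenOrders
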