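import Cfsg.Agent.ESevenOrders.Torus
import Cfsg.Agent.Weyl.RootE7
import Cfsg.Agent.LangTorus.Descent
import Mathlib.FieldTheory.Finite.GaloisField

/-!
# E7(2) has no element of order 65

An element of order 13 is conjugate into the torus over the field with 4096 elements, to a
point of the alcove; doubling of the point is realised in the Weyl group, which leaves two points,
both with an elementary abelian 2-stabiliser. So the element of order 5 goes into the torus as
well, and no element of the Weyl group doubles both.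
-/

set_option autoImplicit false
set_option linter.style.haveILetI false

namespace CfsgLib.ESevenOrders

open Cfsg.Lie CfsgLib.Chevalley CfsgLib.ChevTorus

variable {F : Type*} [Field F] [CharP F 2] [Fintype F]
  {C : Weyl.Cert chevE7.rank} {M : CoxeterMatrix (Fin chevE7.rank)} {R : Weyl.RootTable}
  (h : Weyl.RootGood C M R)

omit [CharP F 2] [Fintype F] in
theorem torC_mem_groupE (c : Nd → Fˣ) : torC chevE7 c ∈ chevE7.group F :=
  diag_le_group goodE (LangTorus.torC_mem_diag goodE c)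

/-- The `p`-torsion of the torus. -/
def tors (p : ℕ) : Subgroup ↥(chevE7.group F) where
  carrier := {g | ∃ c : Nd → Fˣ, c ^ p = 1 ∧ torC chevE7 c = (g : GL chevE7.Idx F)}
  one_mem' := ⟨1, one_pow p, (torHom chevE7 F).map_one⟩
  mul_mem' := by
    rintro x y ⟨c, hc, hx⟩ ⟨d, hd, hy⟩
    exact ⟨c * d, by rw [mul_pow, hc, hd, one_mul], by
      rw [← torC_mul, hx, hy]; rfl⟩
  inv_mem' := by
    rintro x ⟨c, hc, hx⟩
    exact ⟨c⁻¹, by rw [inv_pow, hc, inv_one], by
      show torHom chevE7 F c⁻¹ = _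
      rw [map_inv]
      exact congrArg (·⁻¹) hx⟩

omit [CharP F 2] [Fintype F] in
theorem isPGroup_tors (p : ℕ) : IsPGroup p ↥(tors (F := F) p) := by
  rintro ⟨g, c, hc, hg⟩
  refine ⟨1, Subtype.ext (Subtype.ext ?_)⟩
  show (g : GL chevE7.Idx F) ^ p ^ 1 = 1
  rw [← hg, pow_one, show torC chevE7 c = torHom chevE7 F c from rfl, ← map_pow, hc, map_one]

include h in
/-- Over the field with 4096 elements an element of order dividing 13 is conjugate into the
torus. -/
theorem exists_conj_thirteen (hF : Fintype.card F = 4096) {x : GL chevE7.Idx F}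
    (hx : x ∈ chevE7.group F) (hx13 : x ^ 13 = 1) :
    ∃ g ∈ chevE7.group F, ∃ c : Nd → Fˣ, c ^ 13 = 1 ∧ g * x = torC chevE7 c * g := by
  haveI : Fact (Nat.Prime 13) := ⟨by norm_num⟩
  haveI : NeZero (13 : ℕ) := ⟨by norm_num⟩
  obtain ⟨ζ, hζ⟩ := exists_prime_orderOf_dvd_card' (G := Fˣ) 13 (by
    rw [Nat.card_units, Nat.card_eq_fintype_card, hF]; norm_num)
  have hprim : IsPrimitiveRoot ζ 13 := hζ ▸ IsPrimitiveRoot.orderOf ζ
  obtain ⟨g, hg⟩ := exists_conj_mem_of_normalizer (isPGroup_tors (F := F) 13)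
    (fun g hgN ⟨a, ha⟩ => by
      obtain ⟨c, hc, hce⟩ := mem_torus_of_normalizes h (p := 13) (by rw [hF]; norm_num)
        g.2 (fun c hc => by
          obtain ⟨d, -, hd⟩ :=
            (Subgroup.mem_normalizer_iff.1 hgN ⟨torC chevE7 c, torC_mem_groupE c⟩).1 ⟨c, hc, rfl⟩
          exact ⟨d, by rw [hd]; simp⟩)
        (exists_separating (Or.inr rfl) hprim) (a := a) (congrArg Subtype.val ha)
        (fun w hw _ => eq_one_of_thirteen h hw)
      exact ⟨c, hc, hce⟩)
    (x := ⟨x, hx⟩) ⟨1, Subtype.ext (by simpa using hx13)⟩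
  obtain ⟨c, hc, hce⟩ := hg
  exact ⟨g, g.2, c, hc, by rw [hce]; simp⟩

include h in
/-- The centraliser of a torus element whose point has a 2-group as stabiliser has its elements of
order dividing 5 conjugate into the torus. -/
theorem exists_conj_five (hF : Fintype.card F = 4096) {ζ : Fˣ} (hζ : IsPrimitiveRoot ζ 13)
    {c : Nd → Fˣ} {a : Nd → ℤ} (hca : IsPt ζ c a)
    (hst : ∀ u : M.Group, (∀ r, (13 : ℤ) ∣ V a (h.rootPerm u r) - V a r) → u * u = 1)
    {x : GL chevE7.Idx F} (hx : x ∈ chevE7.group F) (hx5 : x ^ 5 = 1)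
    (hcomm : x * torC chevE7 c = torC chevE7 c * x) :
    ∃ g ∈ chevE7.group F, g * torC chevE7 c = torC chevE7 c * g ∧
      ∃ d : Nd → Fˣ, d ^ 5 = 1 ∧ g * x = torC chevE7 d * g := by
  haveI : Fact (Nat.Prime 5) := ⟨by norm_num⟩
  haveI : NeZero (5 : ℕ) := ⟨by norm_num⟩
  haveI : NeZero (13 : ℕ) := ⟨by norm_num⟩
  obtain ⟨η, hη⟩ := exists_prime_orderOf_dvd_card' (G := Fˣ) 5 (by
    rw [Nat.card_units, Nat.card_eq_fintype_card, hF]; norm_num)
  have hprim : IsPrimitiveRoot η 5 := hη ▸ IsPrimitiveRoot.orderOf η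
  set Y : ↥(chevE7.group F) := ⟨torC chevE7 c, torC_mem_groupE c⟩
  set G₀ : Subgroup ↥(chevE7.group F) := Subgroup.centralizer {Y}
  have hmem : ∀ {z : GL chevE7.Idx F} (hz : z ∈ chevE7.group F),
      z * torC chevE7 c = torC chevE7 c * z → (⟨z, hz⟩ : ↥(chevE7.group F)) ∈ G₀ := by
    intro z hz hzc
    rw [Subgroup.mem_centralizer_singleton_iff]
    exact Subtype.ext hzc
  have hS : IsPGroup 5 ↥((tors (F := F) 5).subgroupOf G₀) := by
    rintro ⟨⟨g, hg0⟩, hg⟩
    obtain ⟨k, hk⟩ := isPGroup_tors (F := F) 5 ⟨g, hg⟩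
    have hk' : g ^ 5 ^ k = 1 := congrArg Subtype.val hk
    exact ⟨k, Subtype.ext (Subtype.ext hk')⟩
  obtain ⟨g, hg⟩ := exists_conj_mem_of_normalizer hS
    (fun g hgN ⟨a₀, ha⟩ => by
      obtain ⟨⟨gv, hgv⟩, hg0⟩ := g
      have hgc : gv * torC chevE7 c = torC chevE7 c * gv :=
        congrArg Subtype.val (Subgroup.mem_centralizer_singleton_iff.1 hg0)
      have ha' : gv ^ 5 ^ a₀ = 1 := congrArg (Subtype.val ∘ Subtype.val) ha
      obtain ⟨d, hd, hde⟩ := mem_torus_of_normalizes h (p := 5) (by rw [hF]; norm_num) hgv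
        (fun d hd => by
          have hdG : (⟨torC chevE7 d, torC_mem_groupE d⟩ : ↥(chevE7.group F)) ∈ G₀ := by
            refine hmem _ ?_
            rw [torC_mul, torC_mul, mul_comm]
          obtain ⟨e, -, he⟩ :=
            (Subgroup.mem_normalizer_iff.1 hgN ⟨⟨_, torC_mem_groupE d⟩, hdG⟩).1 ⟨d, hd, rfl⟩
          exact ⟨e, by rw [he]; simp⟩)
        (exists_separating (Or.inl rfl) hprim) (a := a₀) ha'
        (fun w hw hval => by
          have h2 : w * w = 1 := hst w fun r => by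
            have e1 := hval c c hgc r
            rw [hca, hca, ← mul_inv_eq_one, ← zpow_neg, ← zpow_add, hζ.zpow_eq_one_iff_dvd,
              ← sub_eq_add_neg] at e1
            exact_mod_cast e1
          have hodd : Odd (5 ^ a₀) := Odd.pow ⟨2, rfl⟩
          obtain ⟨m, hm⟩ := hodd
          rw [hm, pow_succ, pow_mul, pow_two, h2, one_pow, one_mul] at hw
          exact hw)
      exact ⟨d, hd, hde⟩)
    (x := ⟨⟨x, hx⟩, hmem hx hcomm⟩) ⟨1, Subtype.ext (Subtype.ext (by simpa using hx5))⟩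
  obtain ⟨d, hd, hde⟩ := hg
  refine ⟨g.1.1, g.1.2, congrArg Subtype.val (Subgroup.mem_centralizer_singleton_iff.1 g.2), d, hd,
    ?_⟩
  rw [hde]
  simp

omit [CharP F 2] [Fintype F] in
theorem exists_pt_wPerm {ζ : Fˣ} {c : Nd → Fˣ} {a : Nd → ℤ} (hca : IsPt ζ c a)
    {c' : Nd → Fˣ} (i : Nd) (hc' : IsPt ζ c' fun j => V a (wPerm goodE i (pRoot goodE j)))
    {C : Weyl.Cert chevE7.rank} {M : CoxeterMatrix (Fin chevE7.rank)} {R : Weyl.RootTable}
    (h : Weyl.RootGood C M R) :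
    nR goodE i * torC chevE7 c = torC chevE7 c' * nR goodE i := by
  rw [torC_eq, tor_mul_nR, torC_eq]
  have e : (fun s : Rt => torVal c (Sum.inr (wPerm goodE i s) : chevE7.Idx)) =
      fun s : Rt => torVal c' (Sum.inr s : chevE7.Idx) := by
    funext s
    rw [hca, hc', wPerm_eq_rootPerm goodE h, V_perm h]
    simp only [im]
  rw [e]

include h in
/-- **No element of order 65** over a field with 4096 elements that is fixed by squaring. -/
theorem false_of_sixty_five (hF : Fintype.card F = 4096) {x : GL chevE7.Idx F}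
    (hx : x ∈ chevE7.group F) (hord : orderOf x = 65)
    (hfix : Matrix.GeneralLinearGroup.map (frobenius F 2) x = x) : False := by
  haveI : Fact (Nat.Prime 13) := ⟨by norm_num⟩
  haveI : NeZero (13 : ℕ) := ⟨by norm_num⟩
  haveI : NeZero (5 : ℕ) := ⟨by norm_num⟩
  obtain ⟨ζ, hζ'⟩ := exists_prime_orderOf_dvd_card' (G := Fˣ) 13 (by
    rw [Nat.card_units, Nat.card_eq_fintype_card, hF]; norm_num)
  have hζ : IsPrimitiveRoot ζ 13 := hζ' ▸ IsPrimitiveRoot.orderOf ζ
  haveI : Fact (Nat.Prime 5) := ⟨by norm_num⟩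
  obtain ⟨η, hη'⟩ := exists_prime_orderOf_dvd_card' (G := Fˣ) 5 (by
    rw [Nat.card_units, Nat.card_eq_fintype_card, hF]; norm_num)
  have hη : IsPrimitiveRoot η 5 := hη' ▸ IsPrimitiveRoot.orderOf η
  have hx65 : x ^ 65 = 1 := hord ▸ pow_orderOf_eq_one x
  set x13 := x ^ 5 with hx13
  set x5 := x ^ 13 with hx5
  obtain ⟨g₀, hg₀, c₀, hc₀, he₀⟩ := exists_conj_thirteen h hF (pow_mem hx 5)
    (by rw [← pow_mul]; exact hx65)
  obtain ⟨a₀, ha₀⟩ := exists_val hζ hc₀
  obtain ⟨a, ⟨g₁, hg₁, c, hca, he₁⟩, h0, h13⟩ := exists_alcove h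
    (fun a => ∃ g ∈ chevE7.group F, ∃ c : Nd → Fˣ, IsPt ζ c a ∧ g * x13 = torC chevE7 c * g)
    (fun i a ⟨g, hg, c, hca, he⟩ => by
      obtain ⟨c', -, hc'⟩ := exists_pt (n := 13) ⟨6, rfl⟩ hζ fun j => V a (wPerm goodE i (pRoot goodE j))
      refine ⟨nR goodE i * g, mul_mem (monomial_le_group goodE (nR_mem_monomial goodE i)) hg, c',
        hc', ?_⟩
      rw [mul_assoc, he, ← mul_assoc, exists_pt_wPerm hca i hc' h, mul_assoc])
    (fun a b ⟨g, hg, c, hca, he⟩ hab => by
      refine ⟨g, hg, c, fun r => ?_, he⟩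
      rw [hca r, ← mul_inv_eq_one, ← zpow_neg, ← zpow_add, hζ.zpow_eq_one_iff_dvd]
      simp only [V, ← sub_eq_add_neg, ← Finset.sum_sub_distrib, ← mul_sub]
      exact Finset.dvd_sum fun k _ => Dvd.dvd.mul_left (hab k) _)
    ⟨a₀, g₀, hg₀, c₀, ha₀, he₀⟩
  -- the point is not zero
  have hne : ∃ i, ¬ (13 : ℤ) ∣ a i := by
    by_contra hall
    push Not at hall
    have hc1 : c = 1 := eq_one_of_values fun r => by
      rw [hca r, hζ.zpow_eq_one_iff_dvd]
      exact Finset.dvd_sum fun k _ => Dvd.dvd.mul_left (hall k) _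
    rw [hc1, show torC chevE7 (1 : Nd → Fˣ) = 1 from (torHom chevE7 F).map_one, one_mul] at he₁
    have : x13 = 1 := mul_left_cancel (he₁.trans (mul_one g₁).symm)
    have := orderOf_dvd_of_pow_eq_one this
    rw [hord] at this
    norm_num at this
  set σ : GL chevE7.Idx F →* GL chevE7.Idx F := Matrix.GeneralLinearGroup.map (frobenius F 2)
  have hσtor : ∀ c : Nd → Fˣ, σ (torC chevE7 c) = torC chevE7 (c ^ 2) := fun c => by
    show Matrix.GeneralLinearGroup.map (frobenius F 2) (torC chevE7 c) = _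
    rw [LangTorus.map_torC]
    refine congrArg _ (funext fun k => Units.ext ?_)
    simp [frobenius_def]
  -- a conjugating element with its Frobenius image
  have hfus : ∀ g ∈ chevE7.group F, ∀ (z : GL chevE7.Idx F) (d : Nd → Fˣ), σ z = z →
      g * z = torC chevE7 d * g →
      (σ g * g⁻¹) * torC chevE7 d = torC chevE7 (d ^ 2) * (σ g * g⁻¹) := by
    intro g _ z d hz he
    have h1 := congrArg σ he
    rw [map_mul, map_mul, hz, hσtor] at h1
    calc σ g * g⁻¹ * torC chevE7 d = σ g * (g⁻¹ * (torC chevE7 d * g)) * g⁻¹ := by group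
      _ = σ g * z * g⁻¹ := by rw [← he]; group
      _ = _ := by rw [h1]; group
  have hσgrp : ∀ g ∈ chevE7.group F, σ g ∈ chevE7.group F := fun g hg =>
    LangChev.map_mem_group goodE.good _ hg
  have hfix13 : σ x13 = x13 := by rw [hx13, map_pow]; exact congrArg (· ^ 5) hfix
  have hfix5 : σ x5 = x5 := by rw [hx5, map_pow]; exact congrArg (· ^ 13) hfix
  have hdbl : ∀ {n : ℕ} {θ : Fˣ}, IsPrimitiveRoot θ n → ∀ {c : Nd → Fˣ} {a : Nd → ℤ},
      IsPt θ c a → ∀ {w : M.Group} {r : Rt},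
      torVal (c ^ 2) (Sum.inr (h.rootPerm w r) : chevE7.Idx) = torVal c (Sum.inr r) →
      (n : ℤ) ∣ 2 * V a (h.rootPerm w r) - V a r := by
    intro n θ hθ c a hp w r he
    have e : torVal (c ^ 2) (Sum.inr (h.rootPerm w r) : chevE7.Idx) =
        torVal c (Sum.inr (h.rootPerm w r) : chevE7.Idx) ^ (2 : ℤ) := by
      simp only [torVal, ← Finset.prod_zpow]
      refine Finset.prod_congr rfl fun k _ => ?_
      rw [Pi.pow_apply, ← zpow_natCast, ← zpow_mul, ← zpow_mul, mul_comm]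
      rfl
    rw [e, hp, hp, ← zpow_mul, ← mul_inv_eq_one, ← zpow_neg, ← zpow_add,
      hθ.zpow_eq_one_iff_dvd, ← sub_eq_add_neg, mul_comm] at he
    exact he
  -- the part of order 13
  obtain ⟨w₁, hw₁, -⟩ := exists_weyl_of_conj goodE h (mul_mem (hσgrp g₁ hg₁) (inv_mem hg₁))
  have hdiv₁ : ∀ r, (13 : ℤ) ∣ 2 * V a (h.rootPerm w₁ r) - V a r := fun r =>
    hdbl hζ hca (hw₁ c (c ^ 2) (hfus g₁ hg₁ x13 c hfix13 he₁) r)
  have hst := (point_facts a h h0 h13 hne hdiv₁).2
  -- the part of order 5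
  have hy : g₁ * x5 * g₁⁻¹ * torC chevE7 c = torC chevE7 c * (g₁ * x5 * g₁⁻¹) := by
    have hc : torC chevE7 c = g₁ * x13 * g₁⁻¹ := by rw [he₁, mul_inv_cancel_right]
    rw [hc]
    calc g₁ * x5 * g₁⁻¹ * (g₁ * x13 * g₁⁻¹) = g₁ * (x5 * x13) * g₁⁻¹ := by group
      _ = g₁ * (x13 * x5) * g₁⁻¹ := by rw [(Commute.pow_pow_self x 13 5).eq]
      _ = _ := by group
  obtain ⟨g₂, hg₂, hg₂c, d, hd, he₂⟩ := exists_conj_five h hF hζ hca hst
    (mul_mem (mul_mem hg₁ (pow_mem hx 13)) (inv_mem hg₁))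
    (by rw [conj_pow, ← pow_mul, hx65, mul_one, mul_inv_cancel]) hy
  set g := g₂ * g₁
  have hg : g ∈ chevE7.group F := mul_mem hg₂ hg₁
  have he13 : g * x13 = torC chevE7 c * g := by
    rw [show g * x13 = g₂ * (g₁ * x13) from mul_assoc _ _ _, he₁, ← mul_assoc, hg₂c, mul_assoc]
  have he5 : g * x5 = torC chevE7 d * g := by
    calc g * x5 = g₂ * (g₁ * x5 * g₁⁻¹) * g₁ := by simp only [g]; group
      _ = torC chevE7 d * g₂ * g₁ := by rw [he₂]
      _ = _ := mul_assoc _ _ _
  obtain ⟨b, hb⟩ := exists_val hη hd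
  obtain ⟨w, hw, -⟩ := exists_weyl_of_conj goodE h (mul_mem (hσgrp g hg) (inv_mem hg))
  have hkill := (point_facts a h h0 h13 hne fun r =>
    hdbl hζ hca (hw c (c ^ 2) (hfus g hg x13 c hfix13 he13) r)).1
  have hb0 : (fun i => (b i : ZMod 5)) = 0 := hkill _ fun i => by
    have e := hdbl hη hb (hw d (d ^ 2) (hfus g hg x5 d hfix5 he5) (pRoot goodE i))
    rw [V_simple, ← ZMod.intCast_zmod_eq_zero_iff_dvd, Int.cast_sub, sub_eq_zero] at e
    rw [← e, Int.cast_mul, show h.rootPerm w (pRoot goodE i) = im h w i from rfl, V, Int.cast_sum]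
    simp [Int.cast_mul]
  have hd1 : d = 1 := eq_one_of_values fun r => by
    rw [hb r, hη.zpow_eq_one_iff_dvd]
    refine Finset.dvd_sum fun k _ => Dvd.dvd.mul_left ?_ _
    exact (ZMod.intCast_zmod_eq_zero_iff_dvd _ 5).1 (congrFun hb0 k)
  rw [hd1, show torC chevE7 (1 : Nd → Fˣ) = 1 from (torHom chevE7 F).map_one, one_mul] at he5
  have : x5 = 1 := mul_left_cancel (he5.trans (mul_one g).symm)
  have := orderOf_dvd_of_pow_eq_one this
  rw [hord] at this
  norm_num at this

/-- **E7(2) has no element of order 65.** -/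
theorem orderOf_ne_sixty_five (x : ↥(chevE7.group (ZMod 2))) : orderOf x ≠ 65 := by
  intro hord
  have h := Weyl.rootE7_good
  let F := GaloisField 2 12
  letI : Fintype F := Fintype.ofFinite F
  have hF : Fintype.card F = 4096 := by
    rw [← Nat.card_eq_fintype_card, GaloisField.card 2 12 (by norm_num)]; norm_num
  set φ : ZMod 2 →+* F := ZMod.castHom (dvd_refl 2) F
  set ι := Matrix.GeneralLinearGroup.map (n := chevE7.Idx) φ
  have hι : Function.Injective ι := fun a b e =>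
    Units.ext (Matrix.map_injective (f := φ) φ.injective (congrArg Units.val e))
  have hfix : Matrix.GeneralLinearGroup.map (frobenius F 2) (ι x.1) = ι x.1 := by
    have e : (frobenius F 2).comp φ = φ := Subsingleton.elim _ _
    conv_rhs => rw [show ι = Matrix.GeneralLinearGroup.map ((frobenius F 2).comp φ) by rw [e]]
    rfl
  refine false_of_sixty_five (F := F) h hF (LangChev.map_mem_group goodE.good φ x.2) ?_ hfix
  rw [orderOf_injective ι hι, Subgroup.orderOf_coe, hord]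

end CfsgLib.ESevenOrders
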