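import Cfsg.Agent.ESevenOrders.Points
import Cfsg.Agent.ESevenOrders.Fusion
import Cfsg.Agent.LangChev.Basic
import Mathlib.LinearAlgebra.Matrix.GeneralLinearGroup.Card

/-!
# The torus of E7 over a field of characteristic two
-/

set_option autoImplicit false
set_option linter.style.haveILetI false

namespace CfsgLib.ESevenOrders

open Cfsg.Lie CfsgLib.Chevalley CfsgLib.ChevTorus

variable {F : Type*} [Field F]

/-- The torus element has the values of the point. -/
def IsPt (ζ : Fˣ) (c : Nd → Fˣ) (a : Nd → ℤ) : Prop :=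
  ∀ r : Rt, torVal c (Sum.inr r : chevE7.Idx) = ζ ^ V a r

theorem prod_zpow_const (u : Fˣ) (f : Nd → ℤ) : ∏ k : Nd, u ^ f k = u ^ ∑ k : Nd, f k := by
  induction (Finset.univ : Finset Nd) using Finset.cons_induction with
  | empty => simp
  | cons k S hk ih => rw [Finset.prod_cons, Finset.sum_cons, zpow_add, ih]

theorem torVal_eq_sum (ζ : Fˣ) (e : Nd → ℤ) (r : Rt) :
    torVal (fun k => ζ ^ e k) (Sum.inr r : chevE7.Idx) =
      ζ ^ V (fun i => ∑ k : Nd, e k * cm k i) r := by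
  simp only [torVal, wt_inr, ← zpow_mul, prod_zpow_const, V, Finset.mul_sum]
  rw [Finset.sum_comm]
  congr 1
  refine Finset.sum_congr rfl fun k _ => ?_
  rw [cartan_eq, Finset.mul_sum]
  exact Finset.sum_congr rfl fun i _ => by ring

theorem exists_pt {n : ℕ} [NeZero n] (hn : Odd n) {ζ : Fˣ} (hζ : IsPrimitiveRoot ζ n)
    (a : Nd → ℤ) : ∃ c : Nd → Fˣ, c ^ n = 1 ∧ IsPt ζ c a := by
  obtain ⟨m, rfl⟩ := hn
  set e : Nd → ℤ := fun k => ((m : ℤ) + 1) * ∑ i : Nd, ca k i * a i with he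
  refine ⟨fun k => ζ ^ e k, funext fun k => ?_, fun r => ?_⟩
  · rw [Pi.pow_apply, ← zpow_natCast, ← zpow_mul, Pi.one_apply, hζ.zpow_eq_one_iff_dvd]
    exact dvd_mul_left _ _
  rw [torVal_eq_sum, ← mul_inv_eq_one, ← zpow_neg, ← zpow_add, hζ.zpow_eq_one_iff_dvd]
  have e1 : ∀ i : Nd, ∑ k : Nd, e k * cm k i = 2 * ((m : ℤ) + 1) * a i := by
    intro i
    calc ∑ k : Nd, e k * cm k i
        = ((m : ℤ) + 1) * ∑ j : Nd, (∑ k : Nd, cm i k * ca k j) * a j := by
          simp only [he, Finset.mul_sum, Finset.sum_mul]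
          rw [Finset.sum_comm]
          refine Finset.sum_congr rfl fun j _ => Finset.sum_congr rfl fun k _ => ?_
          rw [(simple_facts k i).2.2.1]; ring
      _ = _ := by
          rw [Finset.sum_eq_single i]
          · rw [(simple_facts i i).2.2.2.2, dl_eq, if_pos rfl]; ring
          · intro j _ hj
            rw [(simple_facts i j).2.2.2.2, dl_eq, if_neg (Ne.symm hj)]; ring
          · simp
  have e2 : V (fun i => ∑ k : Nd, e k * cm k i) r + -V a r = ((2 * m + 1 : ℕ) : ℤ) * V a r := by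
    simp only [e1, V, Finset.mul_sum, ← sub_eq_add_neg, ← Finset.sum_sub_distrib]
    exact Finset.sum_congr rfl fun i _ => by push_cast; ring
  rw [e2]
  exact dvd_mul_right _ _

theorem exists_val {n : ℕ} [NeZero n] {ζ : Fˣ} (hζ : IsPrimitiveRoot ζ n) {c : Nd → Fˣ}
    (hc : c ^ n = 1) : ∃ a : Nd → ℤ, IsPt ζ c a := by
  have h : ∀ k, ∃ e : ℕ, ζ ^ e = c k := fun k => by
    obtain ⟨e, -, he⟩ := hζ.eq_pow_of_mem_rootsOfUnity (ξ := c k)
      ((mem_rootsOfUnity _ _).2 (congrFun hc k))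
    exact ⟨e, he⟩
  choose e he using h
  refine ⟨fun i => ∑ k : Nd, (e k : ℤ) * cm k i, fun r => ?_⟩
  rw [← torVal_eq_sum]
  simp [he]

theorem torC_eq (c : Nd → Fˣ) :
    torC chevE7 c = tor fun s => torVal c (Sum.inr s : chevE7.Idx) := by
  simp [torC, torVal]

variable [CharP F 2]

theorem eq_one_of_sq {x : Fˣ} (hx : x ^ 2 = 1) : x = 1 := by
  refine Units.ext ?_
  have h : (x : F) ^ 2 = 1 := by simpa using congrArg Units.val hx
  exact frobenius_inj F 2 (by simpa [frobenius_def] using h)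

theorem eq_one_of_values {c : Nd → Fˣ}
    (h : ∀ r : Rt, torVal c (Sum.inr r : chevE7.Idx) = 1) : c = 1 := by
  funext j
  have h1 : ∏ i : Nd, (∏ k : Nd, c k ^ cm k i) ^ ca i j = 1 := by
    refine Finset.prod_eq_one fun i _ => ?_
    have := h (pRoot goodE i)
    simp only [torVal, wt_inr, cartan_simple] at this
    rw [this, one_zpow]
  simp only [← Finset.prod_zpow, ← zpow_mul] at h1
  rw [Finset.prod_comm] at h1
  simp only [prod_zpow_const, fun k : Nd => (simple_facts k j).2.2.2.2, dl_eq] at h1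
  rw [Finset.prod_eq_single j (fun k _ hk => by simp [hk]) (by simp), if_pos rfl, mul_one] at h1
  exact eq_one_of_sq (by exact_mod_cast h1)

theorem torC_injE : Function.Injective (torC chevE7 : (Nd → Fˣ) → GL chevE7.Idx F) := by
  intro c d e
  rw [torC_eq, torC_eq] at e
  have e1 := tor_injective e
  refine mul_inv_eq_one.1 (eq_one_of_values (c := c * d⁻¹) fun r => ?_)
  have e2 := congrFun e1 r
  simp only [torVal, Pi.mul_apply, Pi.inv_apply, mul_zpow, Finset.prod_mul_distrib, inv_zpow,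
    Finset.prod_inv_distrib] at e2 ⊢
  rw [e2, mul_inv_cancel]

omit [CharP F 2] in
theorem exists_separating {p : ℕ} [NeZero p] (hp : p = 5 ∨ p = 13) {ζ : Fˣ}
    (hζ : IsPrimitiveRoot ζ p) (r : Rt) :
    ∃ c : Nd → Fˣ, c ^ p = 1 ∧ torVal c (Sum.inr r : chevE7.Idx) ≠ 1 := by
  have h := chk_weights
  simp only [List.all_eq_true, List.mem_range, Bool.and_eq_true, List.any_eq_true,
    Bool.not_eq_true', beq_eq_false_iff_ne] at h
  obtain ⟨h13, h5⟩ := h r (rt_lt r)
  have key : ∃ k : Nd, ¬ (p : ℤ) ∣ ∑ i : Nd, co r i * cm k i := by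
    rcases hp with rfl | rfl
    · obtain ⟨k, hk, hk'⟩ := h5
      rw [sum7_eq] at hk'
      exact ⟨⟨k, hk⟩, fun hd => hk' (Int.emod_eq_zero_of_dvd hd)⟩
    · obtain ⟨k, hk, hk'⟩ := h13
      rw [sum7_eq] at hk'
      exact ⟨⟨k, hk⟩, fun hd => hk' (Int.emod_eq_zero_of_dvd hd)⟩
  obtain ⟨k, hk⟩ := key
  have hodd : Odd p := by rcases hp with rfl | rfl <;> decide
  obtain ⟨c, hc, hca⟩ := exists_pt hodd hζ (fun i => cm k i)
  exact ⟨c, hc, by rw [hca r, Ne, hζ.zpow_eq_one_iff_dvd]; exact hk⟩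

variable {C : Weyl.Cert chevE7.rank} {M : CoxeterMatrix (Fin chevE7.rank)} {R : Weyl.RootTable}
  (h : Weyl.RootGood C M R)

/-- The matrix of a Weyl group element modulo 11. -/
def modEleven (w : M.Group) : Matrix Nd Nd (ZMod 11) := Matrix.of fun k i => (co (im h w i) k : ZMod 11)

/-- The representation modulo 11. -/
def modElevenHom : M.Group →* Matrix Nd Nd (ZMod 11) where
  toFun := modEleven h
  map_one' := by
    ext k i
    simp [modEleven, im, co_simple, Matrix.one_apply, eq_comm]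
  map_mul' u v := by
    ext k i
    rw [Matrix.mul_apply]
    simp only [modEleven, Matrix.of_apply]
    rw [show co (im h (u * v) i) k = ∑ j : Nd, co (im h v i) j * co (im h u j) k by
      rw [im, map_mul, Equiv.Perm.mul_apply, co_perm h u]; rfl, Int.cast_sum]
    exact Finset.sum_congr rfl fun j _ => by rw [Int.cast_mul, mul_comm]

theorem coprime_card_GL_eleven (n : ℕ) (hn : n = 7) :
    Nat.Coprime 13 (Nat.card (GL (Fin n) (ZMod 11))) := by
  subst hn
  haveI : Fact (Nat.Prime 11) := ⟨by norm_num⟩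
  rw [Matrix.card_GL_field, Fin.prod_univ_seven, ZMod.card]
  decide +kernel

include h in
/-- The Weyl group has no element of order 13. -/
theorem eq_one_of_thirteen {w : M.Group} {a : ℕ} (hw : w ^ 13 ^ a = 1) : w = 1 := by
  haveI : Fact (Nat.Prime 11) := ⟨by norm_num⟩
  set u := (modElevenHom h).toHomUnits w
  have h1 : orderOf u ∣ 13 ^ a := orderOf_dvd_of_pow_eq_one (by rw [← map_pow, hw, map_one])
  have h2 : orderOf u ∣ Nat.card (GL Nd (ZMod 11)) := orderOf_dvd_natCard u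
  have hcop : Nat.Coprime 13 (Nat.card (GL Nd (ZMod 11))) :=
    coprime_card_GL_eleven chevE7.rank (by decide +kernel)
  have hu : u = 1 := orderOf_eq_one_iff.1
    (Nat.eq_one_of_dvd_coprimes (Nat.Coprime.pow_left a hcop) h1 h2)
  have h3 : modEleven h w = 1 := congrArg Units.val hu
  refine eq_one_of_im h fun i k => ?_
  have hi : ∀ k : Nd, ((co (im h w i) k : ℤ) : ZMod 11) = ((dl i k : ℤ) : ZMod 11) := fun k => by
    have := congrFun (congrFun h3 k) i
    simp only [modEleven, Matrix.of_apply, Matrix.one_apply] at this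
    rw [this, dl_eq]
    by_cases hik : i = k
    · simp [hik]
    · simp [hik, Ne.symm hik]
  have hch := chk_mod_eleven
  simp only [List.all_eq_true, List.mem_range, Bool.or_eq_true, List.any_eq_true,
    Bool.not_eq_true', beq_eq_false_iff_ne, beq_iff_eq] at hch
  rcases hch _ (rt_lt (im h w i)) i (nd_lt i) with h4 | ⟨l, hl, h4⟩
  · rw [h4, (simple_facts i k).2.1, dl_eq]
  · exfalso
    refine h4 ?_
    have := hi ⟨l, hl⟩
    rw [← sub_eq_zero, ← Int.cast_sub, ZMod.intCast_zmod_eq_zero_iff_dvd] at this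
    exact Int.emod_eq_zero_of_dvd this

variable [Fintype F]

include h in
/-- A `p`-element normalising the `p`-torsion of the torus lies in it, unless it induces a Weyl
group element of `p`-power order. -/
theorem mem_torus_of_normalizes {p : ℕ} [Fact p.Prime] (hF : ¬ p ^ 2 ∣ Fintype.card F - 1)
    {g : GL chevE7.Idx F} (hg : g ∈ chevE7.group F)
    (hn : ∀ c : Nd → Fˣ, c ^ p = 1 → ∃ d : Nd → Fˣ, g * torC chevE7 c = torC chevE7 d * g)
    (hsep : ∀ r : Rt, ∃ c : Nd → Fˣ, c ^ p = 1 ∧ torVal c (Sum.inr r : chevE7.Idx) ≠ 1)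
    {a : ℕ} (ha : g ^ p ^ a = 1)
    (hw : ∀ w : M.Group, w ^ p ^ a = 1 →
      (∀ c d : Nd → Fˣ, g * torC chevE7 c = torC chevE7 d * g →
        ∀ r : Rt, torVal d (Sum.inr (h.rootPerm w r) : chevE7.Idx) = torVal c (Sum.inr r)) →
      w = 1) :
    ∃ c : Nd → Fˣ, c ^ p = 1 ∧ torC chevE7 c = g := by
  classical
  obtain ⟨w, hval, hmono⟩ := exists_weyl_of_conj goodE h hg
  obtain ⟨hm, hwe⟩ := hmono fun r => by
    obtain ⟨c, hc, hc'⟩ := hsep r
    obtain ⟨d, hd⟩ := hn c hc
    exact ⟨c, d, hd, hc'⟩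
  have hw1 : w = 1 := by
    refine hw w ?_ hval
    rw [← hwe, ← map_pow,
      show (⟨g, hm⟩ : ↥(chevE7.monomialSubgroup F)) ^ p ^ a = 1 from Subtype.ext ha, map_one]
  have hk : (⟨g, hm⟩ : ↥(chevE7.monomialSubgroup F)) ∈ (weylHom goodE h).ker := hwe.trans hw1
  rw [ker_weylHom] at hk
  replace hk : g ∈ chevE7.diagonalSubgroup F := hk
  rw [diagonalSubgroup_eq_range goodE] at hk
  obtain ⟨c, rfl⟩ := hk
  have hc : c ^ p ^ a = 1 := torC_injE (F := F) (by
    show torHom chevE7 F (c ^ p ^ a) = torHom chevE7 F 1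
    rw [map_pow, ha, map_one])
  refine ⟨c, funext fun k => ?_, rfl⟩
  rw [Pi.pow_apply, Pi.one_apply, ← orderOf_dvd_iff_pow_eq_one]
  obtain ⟨j, -, hj⟩ := (Nat.dvd_prime_pow (Fact.out : p.Prime)).1
    (orderOf_dvd_of_pow_eq_one (congrFun hc k))
  have h1 : orderOf (c k) ∣ Fintype.card F - 1 := Fintype.card_units F ▸ orderOf_dvd_card
  rw [hj] at h1 ⊢
  have hj1 : j ≤ 1 := by
    by_contra hlt
    exact hF (dvd_trans (pow_dvd_pow p (by omega : 2 ≤ j)) h1)
  simpa using pow_dvd_pow p hj1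

end CfsgLib.ESevenOrders
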